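import Cfsg.Agent.Lib.InertPrime.Exc
import Cfsg.Agent.Lib.ConstDiff.SolvCent
import Cfsg.Agent.Lib.Chars17.Constituents
import Cfsg.Agent.Lib.Blocks.SingleBlock
import Cfsg.Agent.Lib.Blocks.Kernel
import Cfsg.Agent.Lib.BSW.Dual
import Cfsg.Agent.Lib.AbelTwo.Homocyclic

/-!
# The solvable case of a free automiser
-/

set_option autoImplicit false
set_option linter.style.haveILetI false
set_option linter.unusedSectionVars false
set_option linter.unusedVariables false
set_option maxHeartbeats 800000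

noncomputable section

namespace CfsgLib.InertPrime

open Cfsg CfsgLib.Characters CfsgLib.AbelianFrob
open scoped ComplexConjugate Classical

universe u

variable {L : Type u} [Group L] [Fintype L] [hp2 : Fact (Nat.Prime 2)] {M : Ideal AlgInt}

/-- Inflations from the quotient by a subgroup of odd order with a single block. -/
theorem infl_mem_principal (hM : IsPModular 2 M) (O : Subgroup L) [O.Normal]
    (huniv : principalBlock M (L ⧸ O) = Set.univ) (φ : IrrCharacter (L ⧸ O)) :
    Chars17.infl O φ ∈ principalBlock M L := by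
  intro g
  set f := QuotientGroup.mk' O
  have hφ : φ ∈ principalBlock M (L ⧸ O) := by rw [huniv]; trivial
  obtain ⟨r, hr⟩ := CfsgLib.AbelTwo.index_centralizer_dvd f (QuotientGroup.mk'_surjective O) g
  have h1 : centralChar (fun _ : L => (1 : ℂ)) g =
      (r : ℂ) * centralChar (fun _ : L ⧸ O => (1 : ℂ)) (f g) := by
    simp only [centralChar, hr]; push_cast; ring
  have h2 : centralChar (Chars17.infl O φ : L → ℂ) g =
      (r : ℂ) * centralChar (φ : L ⧸ O → ℂ) (f g) := by
    simp only [centralChar, hr, Chars17.infl_apply, QuotientGroup.mk_one]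
    simp only [f, QuotientGroup.mk'_apply]
    push_cast; ring
  rw [h1, h2, ← mul_sub]
  exact CfsgLib.Blocks.MemLocalIdeal.mul_left hM
    (natCast_mem (CfsgLib.Blocks.lRing hM) r) (hφ (f g))

variable [Group.IsSolvable L] (S : Sylow 2 L)

/-- The product of the odd core and the Sylow subgroup. -/
def hull : Subgroup L :=
  ((S : Subgroup L).map (QuotientGroup.mk' (pPrimeCore 2 L))).comap
    (QuotientGroup.mk' (pPrimeCore 2 L))

variable (hab : IsMulCommutative ↥(S : Subgroup L))

include hab in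
theorem comm_mem : ∀ a ∈ (S : Subgroup L), ∀ b ∈ (S : Subgroup L), a * b = b * a :=
  fun a ha b hb => congrArg Subtype.val
    (hab.is_comm.comm (⟨a, ha⟩ : (S : Subgroup L)) ⟨b, hb⟩)

include hab in
theorem hull_normal : (hull S).Normal := by
  rw [hull, ConstDiff.normal_map_sylow S (comm_mem S hab)]
  exact Subgroup.Normal.comap inferInstance _

include hab in
theorem single_quotient (hM : IsPModular 2 M) :
    principalBlock M (L ⧸ pPrimeCore 2 L) = Set.univ := by
  haveI : Group.IsSolvable (L ⧸ pPrimeCore 2 L) :=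
    Group.isSolvable_of_surjective (QuotientGroup.mk'_surjective _)
  exact CfsgLib.SingleBlock.principalBlock_eq_univ hM (pCore 2 _) CfsgLib.PCore.pCore_isPGroup
    (CfsgLib.InvChar.centralizer_pCore_le CfsgLib.PCore.pPrimeCore_quotient_pPrimeCore)

include hab in
theorem hull_inf : hull S ⊓ NP S = CP S := by
  set π := QuotientGroup.mk' (pPrimeCore 2 L)
  refine le_antisymm ?_ ?_
  · rintro x ⟨hx, hxN⟩
    obtain ⟨s, hs, hsx⟩ := hx
    have ho : x * s⁻¹ ∈ pPrimeCore 2 L := by
      rw [← QuotientGroup.eq_one_iff (N := pPrimeCore 2 L)]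
      show π (x * s⁻¹) = 1
      rw [map_mul, map_inv, hsx, mul_inv_cancel]
    refine Subgroup.mem_centralizer_iff.2 fun a ha => ?_
    have hoN : x * s⁻¹ ∈ NP S := mul_mem hxN (inv_mem (Subgroup.le_normalizer hs))
    have h1 : x * s⁻¹ * a * (x * s⁻¹)⁻¹ * a⁻¹ ∈ pPrimeCore 2 L ⊓ (S : Subgroup L) := by
      refine ⟨?_, Subgroup.mul_mem _ ((Subgroup.mem_normalizer_iff.1 hoN a).1 ha)
        (Subgroup.inv_mem _ ha)⟩
      rw [show x * s⁻¹ * a * (x * s⁻¹)⁻¹ * a⁻¹ = x * s⁻¹ * (a * (x * s⁻¹)⁻¹ * a⁻¹) by group]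
      exact mul_mem ho ((pPrimeCore_normal 2 L).conj_mem _ (inv_mem ho) a)
    rw [inf_comm, CfsgLib.PCore.inf_eq_bot_of_isPGroup_coprime S.2
      (CfsgLib.PCore.coprime_of_not_dvd_card CfsgLib.PCore.not_dvd_card_pPrimeCore),
      Subgroup.mem_bot, mul_inv_eq_one, mul_inv_eq_iff_eq_mul] at h1
    have h2 : s * a = a * s := comm_mem S hab s hs a ha
    calc a * x = a * (x * s⁻¹) * s := by group
      _ = x * s⁻¹ * a * s := by rw [h1]
      _ = x * a := by rw [mul_assoc _ a s, ← h2]; group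
  · intro x hx
    refine ⟨?_, Subgroup.centralizer_le_normalizer _ hx⟩
    haveI : Group.IsSolvable (L ⧸ pPrimeCore 2 L) :=
      Group.isSolvable_of_surjective (QuotientGroup.mk'_surjective _)
    show π x ∈ (S : Subgroup L).map π
    rw [ConstDiff.normal_map_sylow S (comm_mem S hab)]
    refine CfsgLib.InvChar.centralizer_pCore_le CfsgLib.PCore.pPrimeCore_quotient_pPrimeCore
      (Subgroup.mem_centralizer_iff.2 fun a ha => ?_)
    rw [← ConstDiff.normal_map_sylow S (comm_mem S hab)] at ha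
    obtain ⟨s, hs, rfl⟩ := ha
    rw [← map_mul, ← map_mul, Subgroup.mem_centralizer_iff.1 hx s hs]

include hab in
theorem index_hull : (hull S).index = (CP S).relIndex (NP S) := by
  haveI := hull_normal S hab
  have hOle : pPrimeCore 2 L ≤ hull S := fun x hx => by
    show QuotientGroup.mk' (pPrimeCore 2 L) x ∈
      (S : Subgroup L).map (QuotientGroup.mk' (pPrimeCore 2 L))
    rw [QuotientGroup.mk'_apply, (QuotientGroup.eq_one_iff x).2 hx]
    exact one_mem _
  have htop : NP S ⊔ hull S = ⊤ := by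
    refine top_le_iff.1 ?_
    rw [← ConstDiff.eq_core_sup_normalizer S (comm_mem S hab)]
    exact sup_le (hOle.trans le_sup_right) le_sup_left
  rw [← Subgroup.relIndex_top_right, ← htop, Subgroup.relIndex_sup_right,
    ← Subgroup.inf_relIndex_right, hull_inf S hab]

include hab in
theorem index_map_sylow :
    ((S : Subgroup L).map (QuotientGroup.mk' (pPrimeCore 2 L))).index =
      (CP S).relIndex (NP S) := by
  rw [← index_hull S hab, hull, Subgroup.index_comap_of_surjective _
    (QuotientGroup.mk'_surjective _)]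

theorem card_hull :
    Nat.card ↥(hull S) = Nat.card ↥(pPrimeCore 2 L) * Nat.card ↥(S : Subgroup L) := by
  set π := QuotientGroup.mk' (pPrimeCore 2 L)
  set S' := (S : Subgroup L).map π
  have h1 := (hull S).card_mul_index
  have h2 := S'.card_mul_index
  have h3 := (pPrimeCore 2 L).card_mul_index
  rw [hull, Subgroup.index_comap_of_surjective _ (QuotientGroup.mk'_surjective _)] at h1
  rw [← Subgroup.index_eq_card] at h2
  have h4 : Nat.card S' = Nat.card ↥(S : Subgroup L) := by
    refine (Nat.card_congr (Equiv.ofBijective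
      (fun s : (S : Subgroup L) => (⟨π s, s, s.2, rfl⟩ : S')) ⟨?_, ?_⟩)).symm
    · intro a b hab'
      have h : π (a : L) = π (b : L) := congrArg Subtype.val hab'
      have hm : (a : L)⁻¹ * b ∈ pPrimeCore 2 L := QuotientGroup.eq.1 h
      have hb : (a : L)⁻¹ * b ∈ (S : Subgroup L) ⊓ pPrimeCore 2 L :=
        ⟨Subgroup.mul_mem _ (Subgroup.inv_mem _ a.2) b.2, hm⟩
      rw [CfsgLib.PCore.inf_eq_bot_of_isPGroup_coprime S.2
        (CfsgLib.PCore.coprime_of_not_dvd_card CfsgLib.PCore.not_dvd_card_pPrimeCore),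
        Subgroup.mem_bot] at hb
      exact Subtype.ext (inv_mul_eq_one.1 hb)
    · rintro ⟨_, s, hs, rfl⟩
      exact ⟨⟨s, hs⟩, rfl⟩
  rw [h4] at h2
  rw [← h2, ← mul_assoc] at h3
  rw [← h3] at h1
  exact Nat.eq_of_mul_eq_mul_right (Nat.pos_of_ne_zero Subgroup.index_ne_zero_of_finite) h1

/-- A regular element of the hull lies in the odd core. -/
theorem mem_core_of_regular {g : L} (hg : g ∈ hull S) (hreg : ¬ 2 ∣ orderOf g) :
    g ∈ pPrimeCore 2 L := by
  obtain ⟨s, hs, hsg⟩ := hg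
  rw [← QuotientGroup.eq_one_iff (N := pPrimeCore 2 L)]
  obtain ⟨k, hk⟩ := IsPGroup.iff_orderOf.1 S.2 ⟨s, hs⟩
  have h1 : orderOf (QuotientGroup.mk' (pPrimeCore 2 L) g) ∣ 2 ^ k := by
    rw [← hsg, ← hk, Subgroup.orderOf_mk s hs]
    exact orderOf_map_dvd _ s
  have h2 := orderOf_map_dvd (QuotientGroup.mk' (pPrimeCore 2 L)) g
  exact orderOf_eq_one_iff.1 (Nat.eq_one_of_dvd_coprimes
    ((Nat.prime_two.coprime_iff_not_dvd.2 hreg).pow_left k) h1 h2)

include hab in
/-- Members of the principal block are functions on the quotient of degree at most the index. -/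
theorem block_facts (hM : IsPModular 2 M) {χ : IrrCharacter L} (hχ : χ ∈ principalBlock M L) :
    charDegree (χ : L → ℂ) ≤ (CP S).relIndex (NP S) ∧
      ∀ o ∈ pPrimeCore 2 L, ∀ g : L, (χ : L → ℂ) (o * g) = (χ : L → ℂ) g := by
  obtain ⟨η, rfl⟩ := Chars17.exists_infl_eq (pPrimeCore 2 L) (χ := χ) fun o ho =>
    Chars17.mem_irrKer.2 (CfsgLib.Blocks.principalBlock_kernel hM hχ
      CfsgLib.PCore.not_dvd_card_pPrimeCore ho)
  refine ⟨?_, fun o ho g => ?_⟩
  · haveI : IsMulCommutative
        ↥((S : Subgroup L).map (QuotientGroup.mk' (pPrimeCore 2 L))) := by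
      haveI := hab
      exact ⟨⟨by
        rintro ⟨_, a, ha, rfl⟩ ⟨_, b, hb, rfl⟩
        refine Subtype.ext ?_
        show _ * _ = _ * _
        rw [← map_mul, ← map_mul, comm_mem S hab a ha b hb]⟩⟩
    have h := Chars17.irrDegree_le_index_of_commutative
      ((S : Subgroup L).map (QuotientGroup.mk' (pPrimeCore 2 L))) η
    rw [index_map_sylow S hab] at h
    have e : charDegree (Chars17.infl (pPrimeCore 2 L) η : L → ℂ) = charDegree (η : L ⧸ pPrimeCore 2 L → ℂ) := by
      have h1 := Chars17.cast_irrDegree (Chars17.infl (pPrimeCore 2 L) η)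
      rw [Chars17.infl_apply, QuotientGroup.mk_one, ← Chars17.cast_irrDegree η] at h1
      exact_mod_cast h1
    rwa [e]
  · rw [Chars17.infl_apply, Chars17.infl_apply, QuotientGroup.mk_mul,
      (QuotientGroup.eq_one_iff o).2 ho, one_mul]

variable (hfrob : Fpf S)
variable {μ : Dual S → IrrCharacter L} {A : IrrCharacter L → ℤ} {d δ : ℤ}

include hab hfrob in
/-- The exceptional characters of the solvable group. -/
theorem exc_solvable (hM : IsPModular 2 M) (T : Struct S M μ A d δ) (hd : d = 0)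
    (hq : 2 * (CP S).relIndex (NP S) < Nat.card ↥(S : Subgroup L)) {ψ : Dual S} (hψ : ψ ≠ 1) :
    δ = 1 ∧ (μ ψ : L → ℂ) 1 = ((CP S).relIndex (NP S) : ℂ) ∧
    (∀ o ∈ pPrimeCore 2 L, (μ ψ : L → ℂ) o = ((CP S).relIndex (NP S) : ℂ)) ∧
    ∀ g : L, ¬ 2 ∣ orderOf g → g ∉ pPrimeCore 2 L → (μ ψ : L → ℂ) g = 0 := by
  set e := (CP S).relIndex (NP S) with he
  set q := Nat.card ↥(S : Subgroup L) with hqd
  obtain ⟨hdeg, hker⟩ := block_facts S hab hM (T.mem ψ hψ)
  set dg := charDegree (μ ψ : L → ℂ) with hdg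
  have h1 : (μ ψ : L → ℂ) 1 = (dg : ℂ) := (Chars17.cast_irrDegree (μ ψ)).symm
  have hval : ∀ y : ↥(S : Subgroup L), y ≠ 1 → (μ ψ : L → ℂ) y = (δ : ℂ) * osum S ψ y :=
    fun y hy => value_exc_zero S hab hfrob hM T hd hψ y (isPPart_self S Nat.prime_two y.2)
      fun h => hy (Subtype.ext h)
  -- the multiplicity of the principal character
  have hsum : ∑ y : ↥(S : Subgroup L), osum S ψ y = 0 := by
    simp only [osum]
    rw [Finset.sum_comm]
    refine Finset.sum_eq_zero fun φ hφ => ?_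
    have hne := ne_one_of_mem_orb S (Finset.mem_filter.1 hφ).2 hψ
    obtain ⟨z, hz⟩ : ∃ z, φ z ≠ 1 := by
      by_contra h
      push Not at h
      exact hne (MonoidHom.ext h)
    have key : (φ z : ℂ) * ∑ y, (φ y : ℂ) = ∑ y, (φ y : ℂ) := by
      rw [Finset.mul_sum]
      exact Fintype.sum_equiv (Equiv.mulLeft z) _ _ fun y => by simp
    by_contra hne0
    exact hz (Units.ext (mul_eq_right₀ hne0 |>.1 key))
  have hb := bcoef_eq S (μ ψ) 1
  simp only [MonoidHom.one_apply, Units.val_one, mul_one] at hb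
  rw [← Finset.add_sum_erase _ _ (Finset.mem_univ (1 : ↥(S : Subgroup L))), Subgroup.coe_one,
    h1, Finset.sum_congr rfl fun y hy => hval y (Finset.ne_of_mem_erase hy),
    ← Finset.mul_sum, Finset.sum_erase_eq_sub (Finset.mem_univ _), hsum, osum_one S hab hfrob hψ,
    ← he, eq_inv_mul_iff_mul_eq₀ (Nat.cast_ne_zero.2 Nat.card_pos.ne')] at hb
  have hbZ : (q : ℤ) * bcoef S (μ ψ) 1 = (dg : ℤ) - δ * e := by
    have : ((q : ℂ) * bcoef S (μ ψ) 1) = (((dg : ℤ) - δ * e : ℤ) : ℂ) := by
      rw [hqd, hb]; push_cast; ring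
    exact_mod_cast this
  have hdg0 : 0 < dg := Chars17.irrDegree_pos (μ ψ)
  have hδe : δ = 1 ∧ dg = e := by
    rcases T.sign with rfl | rfl
    · refine ⟨rfl, ?_⟩
      rcases lt_trichotomy (bcoef S (μ ψ) 1) 0 with hb0 | hb0 | hb0
      · nlinarith [show (q : ℤ) * bcoef S (μ ψ) 1 ≤ -(q : ℤ) by nlinarith]
      · rw [hb0] at hbZ; omega
      · nlinarith [show (q : ℤ) ≤ (q : ℤ) * bcoef S (μ ψ) 1 by nlinarith]
    · exfalso
      rcases lt_trichotomy (bcoef S (μ ψ) 1) 0 with hb0 | hb0 | hb0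
      · nlinarith [show (q : ℤ) * bcoef S (μ ψ) 1 ≤ -(q : ℤ) by nlinarith]
      · rw [hb0] at hbZ; omega
      · nlinarith [show (q : ℤ) ≤ (q : ℤ) * bcoef S (μ ψ) 1 by nlinarith]
  obtain ⟨rfl, hde⟩ := hδe
  rw [hde] at h1
  have hS : ∀ y : ↥(S : Subgroup L), (μ ψ : L → ℂ) y = osum S ψ y := fun y => by
    by_cases hy : y = 1
    · subst hy; rw [Subgroup.coe_one, h1, osum_one S hab hfrob hψ, he]
    · rw [hval y hy, Int.cast_one, one_mul]
  refine ⟨rfl, h1, fun o ho => ?_, fun g hg hgo => ?_⟩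
  · have := hker o ho 1
    rwa [mul_one, h1] at this
  · have hgH : g ∉ hull S := fun h => hgo (mem_core_of_regular S h hg)
    set F : L → ℂ := fun x => (μ ψ : L → ℂ) x * conj ((μ ψ : L → ℂ) x)
    have htot : ∑ x, F x = (Nat.card L : ℂ) := by
      have h := classInner_irr (μ ψ) (μ ψ)
      rw [if_pos rfl, classInner, inv_mul_eq_iff_eq_mul₀ (Nat.cast_ne_zero.2 Nat.card_pos.ne'),
        mul_one] at h
      exact h
    have hHsum : ∑ x ∈ Finset.univ.filter (· ∈ hull S), F x = (Nat.card L : ℂ) := by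
      rw [show ∑ x ∈ Finset.univ.filter (· ∈ hull S), F x =
        ∑ w : ↥(pPrimeCore 2 L) × ↥(S : Subgroup L), F ((w.1 : L) * w.2) from ?_]
      · simp only [Fintype.sum_prod_type, F, hker _ (Subtype.coe_prop _), hS,
          sum_norm_osum S hab hfrob hψ, Finset.sum_const, Finset.card_univ, nsmul_eq_mul]
        rw [← (hull S).card_mul_index, index_hull S hab, card_hull S, ← Nat.card_eq_fintype_card]
        push_cast
        ring
      · refine (Finset.sum_bij (fun w _ => (w.1 : L) * w.2) (fun w _ => ?_) (fun a _ b _ h => ?_)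
          (fun x hx => ?_) (fun _ _ => rfl)).symm
        · refine Finset.mem_filter.2 ⟨Finset.mem_univ _, w.2, w.2.2, ?_⟩
          rw [QuotientGroup.mk'_apply, QuotientGroup.mk'_apply, QuotientGroup.mk_mul,
            (QuotientGroup.eq_one_iff (w.1 : L)).2 w.1.2, one_mul]
        · have hm : (a.2 : L) * (b.2 : L)⁻¹ ∈ (S : Subgroup L) ⊓ pPrimeCore 2 L := by
            refine ⟨Subgroup.mul_mem _ a.2.2 (Subgroup.inv_mem _ b.2.2), ?_⟩
            rw [show (a.2 : L) * (b.2 : L)⁻¹ = (a.1 : L)⁻¹ * ((a.1 : L) * a.2) * (b.2 : L)⁻¹ by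
              group, h, show (a.1 : L)⁻¹ * ((b.1 : L) * b.2) * (b.2 : L)⁻¹ = (a.1 : L)⁻¹ * b.1 by
              group]
            exact Subgroup.mul_mem _ (Subgroup.inv_mem _ a.1.2) b.1.2
          rw [CfsgLib.PCore.inf_eq_bot_of_isPGroup_coprime S.2
            (CfsgLib.PCore.coprime_of_not_dvd_card CfsgLib.PCore.not_dvd_card_pPrimeCore),
            Subgroup.mem_bot, mul_inv_eq_one] at hm
          rw [hm] at h
          exact Prod.ext (Subtype.ext (mul_right_cancel h)) (Subtype.ext hm)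
        · obtain ⟨s, hs, hsx⟩ := (Finset.mem_filter.1 hx).2
          refine ⟨(⟨x * s⁻¹, ?_⟩, ⟨s, hs⟩), Finset.mem_univ _, by simp⟩
          rw [← QuotientGroup.eq_one_iff (N := pPrimeCore 2 L)]
          show QuotientGroup.mk' (pPrimeCore 2 L) (x * s⁻¹) = 1
          rw [map_mul, map_inv, hsx, mul_inv_cancel]
    rw [← Finset.sum_filter_add_sum_filter_not Finset.univ (· ∈ hull S), hHsum, add_eq_left]
      at htot
    have hre : ∑ x ∈ Finset.univ.filter (fun x => ¬ x ∈ hull S),
        Complex.normSq ((μ ψ : L → ℂ) x) = 0 := by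
      have : ((∑ x ∈ Finset.univ.filter (fun x => ¬ x ∈ hull S),
          Complex.normSq ((μ ψ : L → ℂ) x) : ℝ) : ℂ) = 0 := by
        rw [← htot, Complex.ofReal_sum]
        exact Finset.sum_congr rfl fun x _ => (Complex.mul_conj _).symm
      exact_mod_cast this
    exact Complex.normSq_eq_zero.1 ((Finset.sum_eq_zero_iff_of_nonneg
      fun x _ => Complex.normSq_nonneg _).1 hre g (Finset.mem_filter.2 ⟨Finset.mem_univ _, hgH⟩))

include hab in
/-- The regular rank of the principal block is at least a prime index. -/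
theorem le_rank (hM : IsPModular 2 M) (hp : ((CP S).relIndex (NP S)).Prime) :
    (CP S).relIndex (NP S) ≤ blockRank 2 (principalBlock M L) := by
  haveI := hull_normal S hab
  set H := hull S
  set e := (CP S).relIndex (NP S) with he
  have hcard : Nat.card (L ⧸ H) = e := by rw [← Subgroup.index_eq_card, index_hull S hab]
  haveI := Fact.mk hp
  haveI : IsCyclic (L ⧸ H) := isCyclic_of_prime_card hcard
  have hcomm : ∀ a b : L ⧸ H, a * b = b * a := fun a b =>
    (IsCyclic.isMulCommutative (α := L ⧸ H)).is_comm.comm a b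
  have hOle : pPrimeCore 2 L ≤ H := fun x hx => by
    show QuotientGroup.mk' (pPrimeCore 2 L) x ∈
      (S : Subgroup L).map (QuotientGroup.mk' (pPrimeCore 2 L))
    rw [QuotientGroup.mk'_apply, (QuotientGroup.eq_one_iff x).2 hx]
    exact one_mem _
  let Λ : (L ⧸ H →* ℂˣ) → IrrCharacter L := fun ν =>
    ⟨_, isIrrCharacter_of_hom (ν.comp (QuotientGroup.mk' H))⟩
  have hΛ : ∀ ν g, (Λ ν : L → ℂ) g = (ν (g : L ⧸ H) : ℂ) := fun ν g => rfl
  have hmem : ∀ ν, Λ ν ∈ principalBlock M L := fun ν => by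
    obtain ⟨η, hη⟩ := Chars17.exists_infl_eq (pPrimeCore 2 L) (χ := Λ ν) fun o ho =>
      Chars17.mem_irrKer.2 (by
        rw [hΛ, hΛ, (QuotientGroup.eq_one_iff o).2 (hOle ho), QuotientGroup.mk_one])
    exact hη ▸ infl_mem_principal hM _ (single_quotient S hab hM) η
  have hreg : ∀ a : L ⧸ H, ∃ g : L, (g : L ⧸ H) = a ∧ ¬ 2 ∣ orderOf g := by
    intro a
    obtain ⟨x, rfl⟩ := QuotientGroup.mk_surjective a
    obtain ⟨v, w, hw, hcw, ⟨k, hk⟩, hwo⟩ := CfsgLib.Blocks.exists_isPPart (p := 2) Nat.prime_two x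
    refine ⟨w, ?_, hwo⟩
    have h1 : ((v : L) : L ⧸ H) = 1 := by
      refine orderOf_eq_one_iff.1 (Nat.eq_one_of_dvd_coprimes ?_ (hk ▸ orderOf_map_dvd
        (QuotientGroup.mk' H) v : orderOf ((v : L) : L ⧸ H) ∣ 2 ^ k)
        (hcard ▸ orderOf_dvd_natCard _ : orderOf ((v : L) : L ⧸ H) ∣ e))
      refine Nat.Coprime.pow_left _ (Nat.prime_two.coprime_iff_not_dvd.2 fun h2 => ?_)
      rcases (Nat.dvd_prime hp).1 h2 with h | h
      · omega
      · rw [he, ← index_hull S hab] at h
        exact S.not_dvd_index (dvd_trans (dvd_of_eq h) (Subgroup.index_dvd_of_le fun s hs =>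
          (⟨s, hs, rfl⟩ : QuotientGroup.mk' (pPrimeCore 2 L) s ∈
            (S : Subgroup L).map (QuotientGroup.mk' (pPrimeCore 2 L)))))
    rw [← hw, QuotientGroup.mk_mul, h1, one_mul]
  have hli : LinearIndependent ℂ fun ν : L ⧸ H →* ℂˣ => pRegularPart 2 (Λ ν : L → ℂ) := by
    have h0 : LinearIndependent ℂ
        fun ν : L ⧸ H →* ℂˣ => ((Units.coeHom ℂ).comp ν : L ⧸ H → ℂ) :=
      (linearIndependent_monoidHom (L ⧸ H) ℂ).comp _ fun a b h => MonoidHom.ext fun x =>
        Units.ext (DFunLike.congr_fun h x)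
    rw [Fintype.linearIndependent_iff] at h0 ⊢
    intro c hc
    refine h0 c (funext fun a => ?_)
    obtain ⟨g, rfl, hg⟩ := hreg a
    have := congrFun hc g
    simp only [Finset.sum_apply, Pi.smul_apply, smul_eq_mul, pRegularPart,
      if_pos (show IsPRegular 2 g from hg), hΛ, Pi.zero_apply] at this
    simpa using this
  have h := finrank_span_eq_card hli
  rw [← Nat.card_eq_fintype_card, CfsgLib.BSW.card_dual hcomm, hcard] at h
  rw [← h]
  exact Submodule.finrank_mono (Submodule.span_mono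
    (Set.range_subset_iff.2 fun ν => ⟨Λ ν, hmem ν, rfl⟩))

end CfsgLib.InertPrime
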