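import Cfsg.Agent.Lib.ConstDiff.SolvCent

/-!
# Abelian Sylow 2-subgroups of rank at least three and solvable centralisers of involutions

Such a group is solvable or has a solvable proper subgroup controlling the involutions of it.
-/

set_option autoImplicit false
set_option linter.unusedSectionVars false
set_option linter.style.haveILetI false
set_option linter.unusedVariables false
set_option maxHeartbeats 800000

noncomputable section

namespace CfsgLib.InertPrime

open Cfsg CfsgLib.ConstDiff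
open scoped Pointwise

universe u

variable {Y : Type u} [Group Y] [Finite Y] [hp2 : Fact (Nat.Prime 2)]

/-- A proper solvable subgroup containing the Sylow subgroup, its normaliser and the centralisers of
its nontrivial elements, and containing every element moving one of its involutions into it. -/
structure Big (P : Sylow 2 Y) (M : Subgroup Y) : Prop where
  solvable : Group.IsSolvable M
  le : (P : Subgroup Y) ≤ M
  norm : Subgroup.normalizer ((P : Subgroup Y) : Set Y) ≤ M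
  ne_top : M ≠ ⊤
  cent : ∀ y ∈ (P : Subgroup Y), y ≠ 1 → Subgroup.centralizer ({y} : Set Y) ≤ M
  control : ∀ x z : Y, z ∈ M → orderOf z = 2 → x * z * x⁻¹ ∈ M → x ∈ M

/-- Rank at least three and solvable centralisers: solvable, or a big solvable subgroup. -/
theorem solvable_or_big (P : Sylow 2 Y)
    (hab : ∀ a ∈ (P : Subgroup Y), ∀ b ∈ (P : Subgroup Y), a * b = b * a)
    (h8 : 8 ≤ Nat.card {a : Y // a ∈ (P : Subgroup Y) ∧ a * a = 1})
    (hsol : ∀ a ∈ (P : Subgroup Y), a ≠ 1 → a * a = 1 →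
      Group.IsSolvable (Subgroup.centralizer ({a} : Set Y))) :
    Group.IsSolvable Y ∨ ∃ M : Subgroup Y, Big P M := by
  set PP := (P : Subgroup Y) with hPP
  let A : Subgroup Y :=
    { carrier := {a | a ∈ PP ∧ a * a = 1}
      one_mem' := ⟨one_mem _, one_mul _⟩
      mul_mem' := fun {a b} ha hb => ⟨PP.mul_mem ha.1 hb.1, by
        rw [show a * b * (a * b) = a * (b * a) * b by group, ← hab a ha.1 b hb.1,
          show a * (a * b) * b = a * a * (b * b) by group, ha.2, hb.2, one_mul]⟩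
      inv_mem' := fun {a} ha => ⟨PP.inv_mem ha.1, by rw [← mul_inv_rev, ha.2, inv_one]⟩ }
  have hAP : ∀ a ∈ A, a ∈ PP := fun a ha => ha.1
  set θ : Y → Subgroup Y := fun a => centralizerPPrimeCore 2 a with hθ
  have hPle : ∀ a ∈ PP, PP ≤ Subgroup.centralizer ({a} : Set Y) := fun a ha b hb =>
    Subgroup.mem_centralizer_singleton_iff.2 (hab b hb a ha)
  have hmemS : ∀ a (ha : a ∈ PP) (c : Subgroup.centralizer ({a} : Set Y)),
      c ∈ ((P.subtype (hPle a ha) : Sylow 2 _) : Subgroup (Subgroup.centralizer ({a} : Set Y))) ↔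
        (c : Y) ∈ PP := fun a ha c => by rw [P.coe_subtype (hPle a ha)]; rfl
  have hθC : ∀ a ∈ A, a ≠ 1 → θ a ≤ Subgroup.centralizer {a} := fun a _ _ =>
    Subgroup.map_subtype_le _
  have hθp : ∀ a ∈ A, a ≠ 1 → ¬ 2 ∣ Nat.card (θ a) := fun a _ _ => by
    show ¬ 2 ∣ Nat.card (centralizerPPrimeCore 2 a)
    rw [centralizerPPrimeCore, Subgroup.card_map_of_injective Subtype.coe_injective]
    exact CfsgLib.PCore.not_dvd_card_pPrimeCore
  have hconj : ∀ a g : Y, ∀ w ∈ θ a, g * w * g⁻¹ ∈ θ (g * a * g⁻¹) := fun a g w hw => by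
    show g * w * g⁻¹ ∈ centralizerPPrimeCore 2 (g * a * g⁻¹)
    rw [← CfsgLib.Signalizer63.map_centralizerPPrimeCore_conj (p := 2) a g]
    exact ⟨w, hw, rfl⟩
  have hθinvP : ∀ a ∈ A, a ≠ 1 → ∀ b ∈ PP, ∀ w ∈ θ a, b * w * b⁻¹ ∈ θ a := by
    intro a ha _ b hb w hw
    have h := hconj a b w hw
    rwa [show b * a * b⁻¹ = a by rw [hab b hb a (hAP a ha), mul_inv_cancel_right]] at h
  have hθs : ∀ a ∈ A, a ≠ 1 → Group.IsSolvable (θ a) := fun a ha ha1 =>
    isSolvable_of_odd_card (hθp a ha ha1)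
  have hbal : ∀ a ∈ A, a ≠ 1 → ∀ b ∈ A, b ≠ 1 → θ a ⊓ Subgroup.centralizer {b} ≤ θ b := by
    intro a ha ha1 b hb hb1
    haveI := hsol b hb.1 hb1 hb.2
    set C := Subgroup.centralizer ({b} : Set Y) with hC
    intro w hw
    have hle := le_core_of_invariant (P.subtype (hPle b hb.1))
      (fun c hc d hd => Subtype.ext
        (hab c ((hmemS b hb.1 c).1 hc) d ((hmemS b hb.1 d).1 hd)))
      ((θ a ⊓ C).subgroupOf C) ?_ ?_
    · exact ⟨⟨w, hw.2⟩, hle (show (⟨w, hw.2⟩ : C) ∈ (θ a ⊓ C).subgroupOf C from hw), rfl⟩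
    · rw [Nat.card_congr (Subgroup.subgroupOfEquivOfLe inf_le_right).toEquiv]
      exact fun h => hθp a ha ha1 (h.trans (Subgroup.card_dvd_of_le inf_le_left))
    · intro s hs v hv
      exact ⟨hθinvP a ha ha1 s ((hmemS b hb.1 s).1 hs) v hv.1, (s * v * s⁻¹ : C).2⟩
  obtain ⟨hWodd, hWC⟩ := Cfsg.Agent.S0217.result A (fun a ha b hb => hab a ha.1 b hb.1)
    (fun a ha => by rw [pow_two]; exact ha.2) (by norm_num; exact h8) θ hθC hθp
    (fun a ha ha1 b hb => hθinvP a ha ha1 b hb.1) hθs hbal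
  set W := ⨆ a : {a : Y // a ∈ A ∧ a ≠ 1}, θ a
  set N := Subgroup.normalizer (PP : Set Y) with hN
  have hWmap : ∀ n ∈ N, W.map (MulAut.conj n).toMonoidHom ≤ W := by
    intro n hn
    rw [Subgroup.map_iSup]
    refine iSup_le fun a => ?_
    have h1 : n * a * n⁻¹ ∈ A := ⟨(Subgroup.mem_normalizer_iff.1 hn a).1 a.2.1.1, by
      rw [show n * (a : Y) * n⁻¹ * (n * a * n⁻¹) = n * ((a : Y) * a) * n⁻¹ by group, a.2.1.2]
      group⟩
    have h2 : n * (a : Y) * n⁻¹ ≠ 1 := fun e => a.2.2 (conj_eq_one_iff.1 e)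
    refine le_trans ?_ (le_iSup (fun a : {a : Y // a ∈ A ∧ a ≠ 1} => θ a) ⟨_, h1, h2⟩)
    rintro _ ⟨w, hw, rfl⟩
    exact hconj a n w hw
  have hNW : N ≤ Subgroup.normalizer (W : Set Y) := fun n hn => by
    rw [Subgroup.mem_normalizer_iff]
    refine fun w => ⟨fun hw => hWmap n hn ⟨w, hw, rfl⟩, fun hw => ?_⟩
    have := hWmap n⁻¹ (N.inv_mem hn) ⟨_, hw, rfl⟩
    simpa [mul_assoc] using this
  set M := N ⊔ W with hM
  have hPM : PP ≤ M := Subgroup.le_normalizer.trans le_sup_left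
  have hcM : ∀ a ∈ A, a ≠ 1 → Subgroup.centralizer ({a} : Set Y) ≤ M := by
    intro a ha ha1
    haveI := hsol a ha.1 ha1 ha.2
    set C := Subgroup.centralizer ({a} : Set Y) with hC
    have hPC := hPle a ha.1
    have h := eq_core_sup_normalizer (P.subtype hPC)
      (fun c hc d hd => Subtype.ext
        (hab c ((hmemS a ha.1 c).1 hc) d ((hmemS a ha.1 d).1 hd)))
    rw [← Subgroup.range_subtype C, MonoidHom.range_eq_map, ← h, Subgroup.map_sup]
    refine sup_le ?_ ?_
    · exact le_trans (le_trans (le_iSup (fun b : {b : Y // b ∈ A ∧ b ≠ 1} => θ b) ⟨a, ha, ha1⟩)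
        le_rfl) le_sup_right
    · refine le_trans ?_ le_sup_left
      rintro _ ⟨c, hc, rfl⟩
      rw [hN, Subgroup.mem_normalizer_iff]
      intro v
      constructor
      · intro hv
        exact (hmemS a ha.1 _).1 ((Subgroup.mem_normalizer_iff.1 hc ⟨v, hPC hv⟩).1
          ((hmemS a ha.1 _).2 hv))
      · intro hv
        have hv' : v ∈ C := by
          simpa [mul_assoc] using C.mul_mem (C.mul_mem (C.inv_mem c.2) (hPC hv)) c.2
        exact (hmemS a ha.1 _).1 ((Subgroup.mem_normalizer_iff.1 hc ⟨v, hv'⟩).2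
          ((hmemS a ha.1 _).2 hv))
  have hMsol : Group.IsSolvable M := by
    haveI hWsol : Group.IsSolvable W := isSolvable_of_odd_card hWodd
    set W' := W.subgroupOf M
    haveI : W'.Normal := (Subgroup.normal_subgroupOf_iff_le_normalizer le_sup_right).2
      (sup_le hNW Subgroup.le_normalizer)
    refine isSolvable_of_normal W' ?_ ?_
    · exact Group.isSolvable_of_surjective
        (f := (Subgroup.subgroupOfEquivOfLe (le_sup_right : W ≤ M)).symm.toMonoidHom)
        (MulEquiv.surjective _)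
    · haveI : Group.IsSolvable N := by
        set A' := PP.subgroupOf N
        haveI : A'.Normal := Subgroup.normal_in_normalizer
        refine isSolvable_of_normal A' ?_ ?_
        · exact Group.isSolvable_of_comm fun c d =>
            Subtype.ext (Subtype.ext (hab _ c.2 _ d.2))
        · refine isSolvable_of_odd_card fun h => P.not_dvd_index ?_
          exact dvd_trans h (Subgroup.relIndex_dvd_index_of_le Subgroup.le_normalizer)
      refine Group.isSolvable_of_surjective (f := (QuotientGroup.mk' W').comp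
        (Subgroup.inclusion (le_sup_left : N ≤ M))) fun q => ?_
      obtain ⟨⟨m, hm⟩, rfl⟩ := QuotientGroup.mk'_surjective W' q
      have hm' : m ∈ ((N : Set Y) * (W : Set Y)) := by
        rw [← Subgroup.coe_mul_of_left_le_normalizer_right N W hNW]; exact hm
      obtain ⟨n, hn, w, hw, rfl⟩ := Set.mem_mul.1 hm'
      refine ⟨⟨n, hn⟩, ?_⟩
      rw [MonoidHom.comp_apply, QuotientGroup.mk'_apply, QuotientGroup.mk'_apply,
        QuotientGroup.eq, Subgroup.mem_subgroupOf]
      simpa using hw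
  by_cases hMtop : M = ⊤
  · left
    exact Group.isSolvable_of_surjective
      (f := ((MulEquiv.subgroupCongr hMtop).trans Subgroup.topEquiv).toMonoidHom)
      (MulEquiv.surjective _)
  right
  haveI := Fintype.ofFinite Y
  haveI := Fintype.ofFinite M
  refine ⟨M, hMsol, hPM, le_sup_left, hMtop, fun y hy hy1 => ?_, fun x z hz hzo hxz => ?_⟩
  · -- a power of `y` is an involution
    obtain ⟨k, hk⟩ := IsPGroup.iff_orderOf.1 P.2 ⟨y, hy⟩
    rw [Subgroup.orderOf_mk y hy] at hk
    obtain ⟨j, rfl⟩ : ∃ j, k = j + 1 := by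
      refine ⟨k - 1, ?_⟩
      have : k ≠ 0 := fun e => hy1 (orderOf_eq_one_iff.1 (by rw [hk, e, pow_zero]))
      omega
    have ha2 : orderOf (y ^ 2 ^ j) = 2 := by
      rw [orderOf_pow_of_dvd (by positivity) (hk ▸ pow_dvd_pow 2 (Nat.le_succ j)), hk, pow_succ,
        Nat.mul_div_cancel_left _ (by positivity)]
    have haA : y ^ 2 ^ j ∈ A := ⟨PP.pow_mem hy _, by
      rw [← pow_two]
      exact orderOf_dvd_iff_pow_eq_one.1 (dvd_of_eq ha2)⟩
    refine le_trans ?_ (hcM _ haA fun e => by rw [e, orderOf_one] at ha2; omega)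
    intro c hc
    rw [Subgroup.mem_centralizer_singleton_iff] at hc ⊢
    exact (Commute.pow_right hc _).eq
  · have hintoA : ∀ t ∈ M, orderOf t = 2 → ∃ m ∈ M, m * t * m⁻¹ ∈ A ∧ m * t * m⁻¹ ≠ 1 := by
      intro t ht hto
      obtain ⟨d, hd⟩ := CfsgLib.AbelTwo.exists_conj_mem (P.subtype hPM) (u := (⟨t, ht⟩ : M))
        ⟨1, by rw [← Subgroup.orderOf_coe, pow_one]; exact hto⟩
      rw [P.coe_subtype hPM, Subgroup.mem_subgroupOf] at hd
      refine ⟨d, d.2, ⟨hd, ?_⟩, fun e => ?_⟩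
      · rw [show (d : Y) * t * (d : Y)⁻¹ * ((d : Y) * t * (d : Y)⁻¹) = d * (t * t) * (d : Y)⁻¹ by
          group, ← pow_two, ← hto, pow_orderOf_eq_one, mul_one, mul_inv_cancel]
      · rw [conj_eq_one_iff.1 e, orderOf_one] at hto
        omega
    have hto' : orderOf (x * z * x⁻¹) = 2 := by
      rw [show x * z * x⁻¹ = MulAut.conj x z from rfl, MulEquiv.orderOf_eq, hzo]
    obtain ⟨m, hm, hmA, hm1⟩ := hintoA z hz hzo
    obtain ⟨m', hm', hmA', -⟩ := hintoA _ hxz hto'
    have e0 : m' * x * m⁻¹ * (m * z * m⁻¹) * (m' * x * m⁻¹)⁻¹ = m' * (x * z * x⁻¹) * m'⁻¹ := by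
      group
    obtain ⟨n, hn, hne⟩ :=
      CfsgLib.AbelTwo.fusion P hab hmA.1 (g := m' * x * m⁻¹) (e0.symm ▸ hmA'.1)
    set a := m * z * m⁻¹ with ha
    have hnM : n ∈ M := (le_sup_left : N ≤ M) hn
    have hc : n⁻¹ * (m' * x * m⁻¹) ∈ M := by
      refine hcM a hmA hm1 (Subgroup.mem_centralizer_singleton_iff.2 ?_)
      calc n⁻¹ * (m' * x * m⁻¹) * a
          = n⁻¹ * (m' * x * m⁻¹ * a * (m' * x * m⁻¹)⁻¹) * (m' * x * m⁻¹) := by group
        _ = n⁻¹ * (n * a * n⁻¹) * (m' * x * m⁻¹) := by rw [hne]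
        _ = a * (n⁻¹ * (m' * x * m⁻¹)) := by group
    have h := M.mul_mem (M.mul_mem (M.mul_mem (M.inv_mem hm') hnM) hc) hm
    have e : m'⁻¹ * n * (n⁻¹ * (m' * x * m⁻¹)) * m = x := by group
    rwa [e] at h

end CfsgLib.InertPrime
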