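import Cfsg.Agent.Lib.InertPrime.Orbit
import Cfsg.Agent.Lib.InertPrime.Solv
import Cfsg.Agent.Lib.InertPrime.Strong
import Cfsg.Agent.Lib.Blocks.ClassCount

/-!
# No big subgroup above a non-elementary Sylow subgroup with a free automiser

The class algebra at an involution makes the exceptional characters induced from the big subgroup,
and those are reducible.
-/

set_option autoImplicit false
set_option linter.style.haveILetI false
set_option linter.unusedSectionVars false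
set_option linter.unusedVariables false
set_option maxHeartbeats 800000

noncomputable section

namespace CfsgLib.InertPrime

open Cfsg CfsgLib.Characters CfsgLib.AbelianFrob
open scoped ComplexConjugate Classical

universe u

variable {G : Type u} [Group G] [Fintype G]

/-- The class algebra at an element with real character values. -/
theorem sum_cls_pairs (a : G) (hreal : ∀ χ : IrrCharacter G, conj ((χ : G → ℂ) a) = (χ : G → ℂ) a)
    (F : G → ℂ) :
    (∑ z ∈ ClassCount.cls a ×ˢ ClassCount.cls a, F (z.1 * z.2)) *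
      (Nat.card (Subgroup.centralizer ({a} : Set G)) : ℂ) ^ 2 =
      (Nat.card G : ℂ) ^ 2 * ∑ χ : IrrCharacter G,
        (χ : G → ℂ) a ^ 2 / (χ : G → ℂ) 1 * classInner F (χ : G → ℂ) := by
  have h1 : ∑ z ∈ ClassCount.cls a ×ˢ ClassCount.cls a, F (z.1 * z.2) =
      ∑ g : G, F g * ((ClassCount.pairs a a {g}).card : ℂ) := by
    rw [← Finset.sum_fiberwise (ClassCount.cls a ×ˢ ClassCount.cls a) (fun z => z.1 * z.2)]
    refine Finset.sum_congr rfl fun g _ => ?_
    rw [ClassCount.pairs]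
    simp only [Finset.mem_singleton]
    rw [Finset.sum_congr rfl fun z hz => by rw [(Finset.mem_filter.1 hz).2], Finset.sum_const,
      nsmul_eq_mul, mul_comm]
  rw [h1, Finset.sum_mul]
  have h2 : ∀ g : G, F g * ((ClassCount.pairs a a {g}).card : ℂ) *
      (Nat.card (Subgroup.centralizer ({a} : Set G)) : ℂ) ^ 2 =
      ∑ χ : IrrCharacter G, (ClassCount.cofDegree χ : ℂ) * (χ : G → ℂ) a ^ 2 *
        (F g * conj ((χ : G → ℂ) g)) := by
    intro g
    have h := ClassCount.card_pairs_mul_centralizers a a {g}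
    rw [pow_two, mul_assoc, ← mul_assoc ((ClassCount.pairs a a {g}).card : ℂ), h, Finset.mul_sum]
    refine Finset.sum_congr rfl fun χ _ => ?_
    rw [Finset.sum_singleton, irr_apply_inv]
    ring
  rw [Finset.sum_congr rfl fun g _ => h2 g, Finset.sum_comm, Finset.mul_sum]
  refine Finset.sum_congr rfl fun χ _ => ?_
  rw [← Finset.mul_sum, classInner, ← ClassCount.card_div_degree χ]
  have : (Nat.card G : ℂ) ≠ 0 := Nat.cast_ne_zero.2 Nat.card_pos.ne'
  field_simp

variable [hp2 : Fact (Nat.Prime 2)]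

theorem exists_involution_zpow {g : G} (hg : 2 ∣ orderOf g) :
    ∃ z ∈ Subgroup.zpowers g, orderOf z = 2 := by
  obtain ⟨m, hm⟩ := hg
  have hpos : 0 < orderOf g := orderOf_pos g
  refine ⟨g ^ m, Subgroup.pow_mem _ (Subgroup.mem_zpowers g) m, ?_⟩
  rw [orderOf_pow_of_dvd (by omega) ⟨2, by rw [hm, mul_comm]⟩, hm,
    Nat.mul_div_cancel _ (by omega)]

variable {P : Sylow 2 G} {Y : Subgroup G} (hY : Big P Y)

include hY in
/-- A conjugate into the big subgroup of an element of even order is a conjugate by a member. -/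
theorem Big.mem_of_conj {g x : G} (hg : g ∈ Y) (h2 : 2 ∣ orderOf g) (hx : x * g * x⁻¹ ∈ Y) :
    x ∈ Y := by
  obtain ⟨z, hz, hzo⟩ := exists_involution_zpow h2
  obtain ⟨i, rfl⟩ := Subgroup.mem_zpowers_iff.1 hz
  refine hY.control x (g ^ i) (Y.zpow_mem hg i) hzo ?_
  rw [← conj_zpow]
  exact Y.zpow_mem hx i

include hY in
/-- Induction does not change the values at elements of even order. -/
theorem Big.indFun_singular {θ : Y → ℂ} (hθ : IsClassFunction Y θ) {g : Y}
    (h2 : 2 ∣ orderOf g) : indFun Y θ (g : G) = θ g := by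
  rw [Induction.indFun_apply, ← Finset.sum_subset (Finset.subset_univ
    (Finset.univ.filter fun x : G => x ∈ Y))]
  · rw [Finset.sum_congr rfl (g := fun _ => θ g), Finset.sum_const, nsmul_eq_mul,
      show (Finset.univ.filter fun x : G => x ∈ Y).card = Nat.card Y by
        rw [Nat.card_eq_fintype_card, Fintype.card_subtype], ← mul_assoc,
      inv_mul_cancel₀ (Nat.cast_ne_zero.2 Nat.card_pos.ne'), one_mul]
    intro x hx
    have hxY := (Finset.mem_filter.1 hx).2
    have h := Induction.extendByZero_conj Y hθ (⟨x, hxY⟩ : Y)⁻¹ (g : G)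
    rw [Induction.extendByZero_coe] at h
    simpa using h
  · intro x _ hx
    refine Induction.extendByZero_notMem Y θ fun hmem => hx (Finset.mem_filter.2
      ⟨Finset.mem_univ _, ?_⟩)
    have h := hY.mem_of_conj g.2 (x := x⁻¹) (by rwa [Subgroup.orderOf_coe]) (by rwa [inv_inv])
    simpa using Y.inv_mem h

variable {M : Ideal AlgInt} (hM : IsPModular 2 M) (hab : IsMulCommutative ↥(P : Subgroup G))
  (hfrob : Fpf P)

include hY hM hab hfrob in
/-- There is no big subgroup. -/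
theorem no_big (he : ((CP P).relIndex (NP P)).Prime) {w : G} (hw : w ∈ (P : Subgroup G))
    (hw2 : w * w ≠ 1) : False := by
  haveI := hY.solvable
  haveI : Fintype Y := Fintype.ofFinite Y
  obtain ⟨hq, y, ψ₀, ψ₁, hyo, hψ₀, hψ₁, hne⟩ := nonelementary_facts P hab hfrob he.one_lt hw hw2
  set e := (CP P).relIndex (NP P) with hedef
  have he2 : 2 ≤ e := he.two_le
  have hm : e + 1 < Nat.card ↥(P : Subgroup G) := by nlinarith
  -- the same data inside the big subgroup
  set PY : Sylow 2 Y := P.subtype hY.le with hPY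
  have hmemP : ∀ a : Y, a ∈ (PY : Subgroup Y) ↔ (a : G) ∈ (P : Subgroup G) := fun a => by
    rw [hPY, P.coe_subtype hY.le]; rfl
  have habY : IsMulCommutative ↥(PY : Subgroup Y) := ⟨⟨fun a b => Subtype.ext (Subtype.ext
    (show ((a : Y) : G) * ((b : Y) : G) = ((b : Y) : G) * ((a : Y) : G) from
      congrArg Subtype.val (hab.is_comm.comm (⟨_, (hmemP a).1 a.2⟩ : (P : Subgroup G))
        ⟨_, (hmemP b).1 b.2⟩)))⟩⟩
  have hNY : NP PY = (NP P).subgroupOf Y := by
    ext n
    rw [Subgroup.mem_subgroupOf, Subgroup.mem_normalizer_iff, Subgroup.mem_normalizer_iff]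
    constructor
    · intro h a
      constructor
      · intro ha
        exact (hmemP _).1 ((h ⟨a, hY.le ha⟩).1 ((hmemP _).2 ha))
      · intro ha
        have haY : a ∈ Y := by
          simpa [mul_assoc] using Y.mul_mem (Y.mul_mem (Y.inv_mem n.2) (hY.le ha)) n.2
        exact (hmemP _).1 ((h ⟨a, haY⟩).2 ((hmemP _).2 ha))
    · intro h a
      rw [hmemP, hmemP]
      exact h a
  have hCY : CP PY = (CP P).subgroupOf Y := by
    ext n
    rw [Subgroup.mem_subgroupOf, Subgroup.mem_centralizer_iff, Subgroup.mem_centralizer_iff]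
    constructor
    · intro h a ha
      exact congrArg Subtype.val (h ⟨a, hY.le ha⟩ ((hmemP _).2 ha))
    · intro h a ha
      exact Subtype.ext (h a ((hmemP a).1 ha))
  have hrel : (CP PY).relIndex (NP PY) = e := by
    rw [hNY, hCY, Subgroup.relIndex_subgroupOf hY.norm]
  have hfY : Fpf PY := by
    intro a ha ha1
    ext c
    rw [Subgroup.mem_inf, hNY, hCY, Subgroup.mem_subgroupOf, Subgroup.mem_subgroupOf,
      Subgroup.mem_centralizer_singleton_iff, ← hfrob (a : G) ((hmemP a).1 ha)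
        fun h => ha1 (Subtype.ext h), Subgroup.mem_inf, Subgroup.mem_centralizer_singleton_iff,
      ← Subgroup.coe_mul, ← Subgroup.coe_mul, Subtype.coe_inj]
  let inc : ↥(PY : Subgroup Y) →* ↥(P : Subgroup G) :=
    { toFun := fun a => ⟨_, (hmemP a).1 a.2⟩
      map_one' := rfl
      map_mul' := fun _ _ => rfl }
  let lift : ↥(P : Subgroup G) → ↥(PY : Subgroup Y) := fun a =>
    ⟨⟨(a : G), hY.le a.2⟩, (hmemP _).2 a.2⟩
  have hcardP : Nat.card ↥(PY : Subgroup Y) = Nat.card ↥(P : Subgroup G) :=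
    Nat.card_congr ⟨fun a => inc a, lift, fun a => rfl, fun a => rfl⟩
  have hinjD : ∀ φ φ' : Dual P, φ.comp inc = φ'.comp inc → φ = φ' := fun φ φ' h =>
    MonoidHom.ext fun a => DFunLike.congr_fun h (lift a)
  have horb : ∀ ψ φ : Dual P, φ ∈ orb P ψ ↔ φ.comp inc ∈ orb PY (ψ.comp inc) := by
    intro ψ φ
    constructor
    · rintro ⟨n, hn, h⟩
      refine ⟨⟨n, hY.norm hn⟩, by rw [hNY]; exact hn, fun a a' e' => h _ _ ?_⟩
      exact congrArg Subtype.val e'
    · rintro ⟨n, hn, h⟩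
      refine ⟨n, by rw [hNY] at hn; exact hn, fun a a' e' => ?_⟩
      exact h (lift a) (lift a') (Subtype.ext e')
  have hosum : ∀ (ψ : Dual P) (a : ↥(PY : Subgroup Y)),
      osum PY (ψ.comp inc) a = osum P ψ (inc a) := by
    intro ψ a
    refine (Finset.sum_bij (fun φ _ => φ.comp inc) (fun φ hφ => ?_) (fun a _ b _ => hinjD a b)
      (fun φ hφ => ?_) (fun _ _ => rfl)).symm
    · exact Finset.mem_filter.2 ⟨Finset.mem_univ _, (horb ψ φ).1 (Finset.mem_filter.1 hφ).2⟩
    · let φ' : Dual P :=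
        { toFun := fun a => φ (lift a)
          map_one' := map_one φ
          map_mul' := fun a b => map_mul φ (lift a) (lift b) }
      have e' : φ'.comp inc = φ := MonoidHom.ext fun a => rfl
      refine ⟨φ', Finset.mem_filter.2 ⟨Finset.mem_univ _, (horb ψ φ').2 ?_⟩, e'⟩
      rw [e']
      exact (Finset.mem_filter.1 hφ).2
  have hne1 : ∀ {ψ : Dual P}, ψ ≠ 1 → ψ.comp inc ≠ 1 := fun hψ h =>
    hψ (hinjD _ _ (h.trans (MonoidHom.one_comp inc).symm))
  -- the exceptional characters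
  obtain ⟨μ, A, d, δ, S⟩ := exists_struct P (M := M) hab hfrob hM hm
  have hd : d = 0 := d_eq_zero P hab hfrob hM S hedef.symm (by omega) hq hψ₀
  obtain ⟨μY, AY, dY, δY, T⟩ := exists_struct PY (M := M) habY hfY hM (by rw [hrel, hcardP]; exact hm)
  have hdY : dY = 0 := d_eq_zero PY habY hfY hM T hrel (by omega) (by rw [hcardP]; exact hq)
    (hne1 hψ₀)
  have hTψ : ∀ ψ : Dual P, ψ ≠ 1 → δY = 1 ∧ (μY (ψ.comp inc) : Y → ℂ) 1 = (e : ℂ) ∧
      (∀ o ∈ pPrimeCore 2 Y, (μY (ψ.comp inc) : Y → ℂ) o = (e : ℂ)) ∧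
      ∀ g : Y, ¬ 2 ∣ orderOf g → g ∉ pPrimeCore 2 Y → (μY (ψ.comp inc) : Y → ℂ) g = 0 := by
    intro ψ hψ
    have h := exc_solvable PY habY hfY hM T hdY (by rw [hrel, hcardP]; nlinarith) (hne1 hψ)
    rwa [hrel] at h
  obtain ⟨hδY, -⟩ := hTψ ψ₀ hψ₀
  set θ₀ := μY (ψ₀.comp inc)
  set θ₁ := μY (ψ₁.comp inc)
  set α : Y → ℂ := (θ₀ : Y → ℂ) - (θ₁ : Y → ℂ) with hαdef
  have hαc : IsClassFunction Y α := fun g h => by
    simp [hαdef, irr_isClassFunction θ₀ g h, irr_isClassFunction θ₁ g h]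
  have hαreg : ∀ g : Y, ¬ 2 ∣ orderOf g → α g = 0 := fun g hg => by
    obtain ⟨-, -, ho, hz⟩ := hTψ ψ₀ hψ₀
    obtain ⟨-, -, ho', hz'⟩ := hTψ ψ₁ hψ₁
    by_cases hgo : g ∈ pPrimeCore 2 Y
    · simp [hαdef, θ₀, θ₁, ho g hgo, ho' g hgo]
    · simp [hαdef, θ₀, θ₁, hz g hg hgo, hz' g hg hgo]
  have hvalY : ∀ (ψ : Dual P), ψ ≠ 1 → ∀ (g : Y) (a : ↥(PY : Subgroup Y)), IsPPart 2 g a →
      (a : Y) ≠ 1 → (μY (ψ.comp inc) : Y → ℂ) g = osum P ψ (inc a) := fun ψ hψ g a hga ha => by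
    rw [value_exc_zero PY habY hfY hM T hdY (hne1 hψ) a hga ha, hosum, hδY, Int.cast_one, one_mul]
  -- induction to the whole group
  have hind : indFun Y α = (δ : ℂ) • ((μ ψ₀ : G → ℂ) - (μ ψ₁ : G → ℂ)) := by
    funext g
    simp only [Pi.smul_apply, Pi.sub_apply, smul_eq_mul]
    by_cases hg : 2 ∣ orderOf g
    · obtain ⟨v, hv⟩ := CfsgLib.Blocks.exists_isPPart (p := 2) Nat.prime_two g
      have hv1 : v ≠ 1 := by
        rintro rfl
        obtain ⟨r, hr, -, -, hro⟩ := hv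
        rw [one_mul] at hr
        exact hro (hr ▸ hg)
      obtain ⟨c, hc⟩ := CfsgLib.AbelTwo.exists_conj_mem P (u := v) (by
        obtain ⟨r, -, -, hk, -⟩ := hv; exact hk)
      have hpart := CfsgLib.Blocks.IsPPart.conj hv c
      set g' := c * g * c⁻¹ with hg'
      set v' := c * v * c⁻¹ with hv'
      have hv'1 : v' ≠ 1 := fun h => hv1 (conj_eq_one_iff.1 h)
      obtain ⟨r, hr, hcomm, hk, hro⟩ := hpart
      have hgY : g' ∈ Y := by
        rw [← hr]
        exact Y.mul_mem (hY.le hc) (hY.cent v' hc hv'1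
          (Subgroup.mem_centralizer_singleton_iff.2 hcomm.eq.symm))
      have hrY : r ∈ Y := hY.cent v' hc hv'1
        (Subgroup.mem_centralizer_singleton_iff.2 hcomm.eq.symm)
      have hoY : 2 ∣ orderOf (⟨g', hgY⟩ : Y) := by
        rw [← Subgroup.orderOf_coe]
        show 2 ∣ orderOf g'
        rw [hg', show c * g * c⁻¹ = MulAut.conj c g from rfl, MulEquiv.orderOf_eq]
        exact hg
      set a : ↥(PY : Subgroup Y) := lift ⟨v', hc⟩
      have hpartY : IsPPart 2 (⟨g', hgY⟩ : Y) (a : Y) :=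
        ⟨⟨r, hrY⟩, Subtype.ext hr, Subtype.ext hcomm.eq, by
          obtain ⟨k, hk⟩ := hk
          exact ⟨k, by rw [← Subgroup.orderOf_coe]; exact hk⟩,
          by rw [← Subgroup.orderOf_coe]; exact hro⟩
      have ha1 : (a : Y) ≠ 1 := fun h => hv'1 (congrArg Subtype.val h)
      have hinc : inc a = ⟨v', hc⟩ := rfl
      have hpartG : IsPPart 2 g' ((⟨v', hc⟩ : ↥(P : Subgroup G)) : G) :=
        ⟨r, hr, hcomm, hk, hro⟩
      rw [← CfsgLib.Induction.isClassFunction_indFun Y α g c,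
        ← irr_isClassFunction (μ ψ₀) g c, ← irr_isClassFunction (μ ψ₁) g c,
        show c * g * c⁻¹ = ((⟨g', hgY⟩ : Y) : G) from rfl, hY.indFun_singular hαc hoY]
      simp only [hαdef, θ₀, θ₁, Pi.sub_apply]
      rw [hvalY ψ₀ hψ₀ _ a hpartY ha1, hvalY ψ₁ hψ₁ _ a hpartY ha1, hinc,
        value_exc_zero P hab hfrob hM S hd hψ₀ ⟨v', hc⟩ hpartG hv'1,
        value_exc_zero P hab hfrob hM S hd hψ₁ ⟨v', hc⟩ hpartG hv'1, ← mul_sub, ← mul_assoc,
        ← Int.cast_mul, S.delta_sq, Int.cast_one, one_mul]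
    · rw [S.regular_eq hM hψ₀ hψ₁ hg, sub_self, mul_zero, Induction.indFun_apply,
        Finset.sum_eq_zero, mul_zero]
      intro x _
      by_cases hx : x⁻¹ * g * x ∈ Y
      · rw [Induction.extendByZero_mem Y α hx]
        refine hαreg _ ?_
        rw [← Subgroup.orderOf_coe]
        show ¬ 2 ∣ orderOf (x⁻¹ * g * x)
        rw [show x⁻¹ * g * x = MulAut.conj x⁻¹ g by simp, MulEquiv.orderOf_eq]
        exact hg
      · exact Induction.extendByZero_notMem Y α hx
  -- the class algebra at the involution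
  set u : G := (y : G)
  have huY : u ∈ Y := hY.le y.2
  set uY : Y := ⟨u, huY⟩
  have hu1 : u ≠ 1 := fun h => by rw [h, orderOf_one] at hyo; omega
  have huu : u⁻¹ = u := inv_eq_of_mul_eq_one_right (by rw [← pow_two, ← hyo, pow_orderOf_eq_one])
  have hrealG : ∀ χ : IrrCharacter G, conj ((χ : G → ℂ) u) = (χ : G → ℂ) u := fun χ => by
    rw [← irr_apply_inv χ u, huu]
  have hrealY : ∀ χ : IrrCharacter Y, conj ((χ : Y → ℂ) uY) = (χ : Y → ℂ) uY := fun χ => by
    rw [← irr_apply_inv χ uY, show uY⁻¹ = uY from Subtype.ext huu]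
  have hC : Nat.card (Subgroup.centralizer ({u} : Set G)) =
      Nat.card (Subgroup.centralizer ({uY} : Set Y)) := by
    refine Nat.card_congr
      ⟨fun c => ⟨⟨c, hY.cent u y.2 hu1 c.2⟩, ?_⟩, fun c => ⟨((c : Y) : G), ?_⟩,
        fun c => rfl, fun c => rfl⟩
    · exact Subgroup.mem_centralizer_singleton_iff.2
        (Subtype.ext (Subgroup.mem_centralizer_singleton_iff.1 c.2))
    · exact Subgroup.mem_centralizer_singleton_iff.2
        (congrArg Subtype.val (Subgroup.mem_centralizer_singleton_iff.1 c.2))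
  have hcls : ∀ a : G, a ∈ ClassCount.cls u → ∀ ha : a ∈ Y,
      (⟨a, ha⟩ : Y) ∈ ClassCount.cls uY := by
    intro a ha haY
    rw [ClassCount.mem_cls] at ha ⊢
    obtain ⟨x, hx⟩ := isConj_iff.1 ha
    exact isConj_iff.2 ⟨⟨x, hY.control x u huY hyo (hx ▸ haY)⟩, Subtype.ext hx⟩
  set TY := ∑ z ∈ ClassCount.cls uY ×ˢ ClassCount.cls uY, α (z.1 * z.2)
  set TG := ∑ z ∈ ClassCount.cls u ×ˢ ClassCount.cls u, indFun Y α (z.1 * z.2) with hTGdef
  have hTG : (Nat.card Y : ℂ) * TG = (Nat.card G : ℂ) * TY := by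
    have h0 : ∀ x : G, ∑ z ∈ ClassCount.cls u ×ˢ ClassCount.cls u,
        extendByZero Y α (x⁻¹ * (z.1 * z.2) * x) =
        ∑ z ∈ ClassCount.cls u ×ˢ ClassCount.cls u, extendByZero Y α (z.1 * z.2) := by
      intro x
      have hmove : ∀ (c a : G), a ∈ ClassCount.cls u → c * a * c⁻¹ ∈ ClassCount.cls u :=
        fun c a ha => ClassCount.mem_cls.2
          ((ClassCount.mem_cls.1 ha).trans (isConj_iff.2 ⟨c, rfl⟩))
      refine Finset.sum_nbij' (fun z => (x⁻¹ * z.1 * x, x⁻¹ * z.2 * x))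
        (fun z => (x * z.1 * x⁻¹, x * z.2 * x⁻¹)) (fun z hz => ?_) (fun z hz => ?_)
        (fun z _ => ?_) (fun z _ => ?_) (fun z _ => ?_)
      · have hz' := Finset.mem_product.1 hz
        exact Finset.mem_product.2 ⟨by simpa using hmove x⁻¹ _ hz'.1,
          by simpa using hmove x⁻¹ _ hz'.2⟩
      · have hz' := Finset.mem_product.1 hz
        exact Finset.mem_product.2 ⟨hmove x _ hz'.1, hmove x _ hz'.2⟩
      · exact Prod.ext (by group) (by group)
      · exact Prod.ext (by group) (by group)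
      · congr 1
        group
    have h1 : (Nat.card Y : ℂ) * TG = ∑ x : G, ∑ z ∈ ClassCount.cls u ×ˢ ClassCount.cls u,
        extendByZero Y α (x⁻¹ * (z.1 * z.2) * x) := by
      rw [hTGdef, Finset.mul_sum, Finset.sum_comm]
      refine Finset.sum_congr rfl fun z _ => ?_
      rw [Induction.indFun_apply, ← mul_assoc, mul_inv_cancel₀
        (Nat.cast_ne_zero.2 Nat.card_pos.ne'), one_mul]
    rw [h1, Finset.sum_congr rfl fun x _ => h0 x, Finset.sum_const, Finset.card_univ, nsmul_eq_mul,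
      ← Nat.card_eq_fintype_card]
    congr 1
    refine (Finset.sum_bij_ne_zero (fun z _ _ => (((z.1 : Y) : G), ((z.2 : Y) : G)))
      (fun z hz _ => ?_) (fun a _ _ b _ _ h => ?_) (fun z hz hne0 => ?_) (fun z _ _ => ?_)).symm
    · have hz' := Finset.mem_product.1 hz
      exact Finset.mem_product.2
        ⟨ClassCount.mem_cls.2 (Y.subtype.map_isConj (ClassCount.mem_cls.1 hz'.1)),
          ClassCount.mem_cls.2 (Y.subtype.map_isConj (ClassCount.mem_cls.1 hz'.2))⟩
    · exact Prod.ext (Subtype.ext (Prod.ext_iff.1 h).1) (Subtype.ext (Prod.ext_iff.1 h).2)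
    · obtain ⟨ha, hb⟩ := Finset.mem_product.1 hz
      have hgY : z.1 * z.2 ∈ Y := by
        by_contra h
        exact hne0 (Induction.extendByZero_notMem Y α h)
      rw [Induction.extendByZero_mem Y α hgY] at hne0
      have h2 : 2 ∣ orderOf (z.1 * z.2) := by
        by_contra h
        exact hne0 (hαreg _ (by rw [← Subgroup.orderOf_coe]; exact h))
      have hsq : ∀ a ∈ ClassCount.cls u, a⁻¹ = a := fun a ha => by
        obtain ⟨x, rfl⟩ := isConj_iff.1 (ClassCount.mem_cls.1 ha)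
        rw [mul_inv_rev, mul_inv_rev, inv_inv, huu, mul_assoc]
      have ha' : z.1 ∈ Y := by
        refine hY.mem_of_conj hgY h2 ?_
        have e1 : z.1 * (z.1 * z.2) * z.1⁻¹ = (z.1 * z.2)⁻¹ := by
          rw [mul_inv_rev, hsq _ ha, hsq _ hb, ← mul_assoc]
          nth_rewrite 2 [← hsq _ ha]
          rw [mul_inv_cancel, one_mul]
        rw [e1]
        exact Y.inv_mem hgY
      have hb' : z.2 ∈ Y := by simpa using Y.mul_mem (Y.inv_mem ha') hgY
      refine ⟨(⟨z.1, ha'⟩, ⟨z.2, hb'⟩),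
        Finset.mem_product.2 ⟨hcls _ ha ha', hcls _ hb hb'⟩, ?_, rfl⟩
      exact hne0
    · exact (Induction.extendByZero_coe Y α _).symm
  have hosq : ∀ ψ : Dual P, ψ ≠ 1 → (μ ψ : G → ℂ) u ^ 2 = osum P ψ y ^ 2 ∧
      (μY (ψ.comp inc) : Y → ℂ) uY = osum P ψ y := by
    intro ψ hψ
    refine ⟨?_, ?_⟩
    · rw [value_exc_zero P hab hfrob hM S hd hψ y (isPPart_self P Nat.prime_two y.2) hu1,
        mul_pow, ← Int.cast_pow, pow_two δ, S.delta_sq, Int.cast_one, one_mul]
    · exact hvalY ψ hψ uY (lift y) (isPPart_self PY Nat.prime_two (lift y).2)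
        fun h => hu1 (congrArg Subtype.val h)
  have horb01 : ψ₁ ∉ orb P ψ₀ := fun h => hne (by rw [osum, osum, orb_eq P h])
  have hne01 : μ ψ₀ ≠ μ ψ₁ := fun h => horb01 ((S.eq_iff ψ₀ ψ₁ hψ₀ hψ₁).1 h)
  have hne01Y : θ₀ ≠ θ₁ := fun h =>
    horb01 ((horb ψ₀ ψ₁).2 ((T.eq_iff _ _ (hne1 hψ₀) (hne1 hψ₁)).1 h))
  have hdd : (μ ψ₀ : G → ℂ) 1 = (μ ψ₁ : G → ℂ) 1 :=
    S.regular_eq hM hψ₀ hψ₁ (by rw [orderOf_one]; decide)
  set dG := (μ ψ₀ : G → ℂ) 1
  set D := osum P ψ₀ y ^ 2 - osum P ψ₁ y ^ 2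
  have hG2 : TG * (Nat.card (Subgroup.centralizer ({u} : Set G)) : ℂ) ^ 2 =
      (Nat.card G : ℂ) ^ 2 * ((δ : ℂ) * (D / dG)) := by
    rw [hTGdef, hind, sum_cls_pairs u hrealG]
    congr 1
    simp only [classInner_smul_left, classInner_sub_left, classInner_irr, mul_sub, mul_ite,
      mul_one, mul_zero, Finset.sum_sub_distrib, Finset.sum_ite_eq, Finset.mem_univ, if_true]
    rw [(hosq ψ₀ hψ₀).1, (hosq ψ₁ hψ₁).1, ← hdd]
    simp only [D, dG]
    ring
  have hY2 : TY * (Nat.card (Subgroup.centralizer ({uY} : Set Y)) : ℂ) ^ 2 =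
      (Nat.card Y : ℂ) ^ 2 * (D / (e : ℂ)) := by
    rw [show TY = ∑ z ∈ ClassCount.cls uY ×ˢ ClassCount.cls uY,
      ((θ₀ : Y → ℂ) - (θ₁ : Y → ℂ)) (z.1 * z.2) from rfl, sum_cls_pairs uY hrealY]
    congr 1
    simp only [classInner_sub_left, classInner_irr, mul_sub, mul_ite,
      mul_one, mul_zero, Finset.sum_sub_distrib, Finset.sum_ite_eq, Finset.mem_univ, if_true]
    simp only [θ₀, θ₁]
    rw [(hosq ψ₀ hψ₀).2, (hosq ψ₁ hψ₁).2, (hTψ ψ₀ hψ₀).2.1, (hTψ ψ₁ hψ₁).2.1]
    simp only [D]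
    ring
  have hD0 : D ≠ 0 := sub_ne_zero.2 hne
  have hdG0 : dG ≠ 0 := irr_one_ne_zero _
  have heC : (e : ℂ) ≠ 0 := Nat.cast_ne_zero.2 (by omega)
  have hcard : (Nat.card G : ℂ) = (Nat.card Y : ℂ) * (Y.index : ℂ) := by
    rw [← Nat.cast_mul, Subgroup.card_mul_index]
  have hdG : dG = (δ : ℂ) * ((Y.index : ℂ) * e) := by
    have hcY : (Nat.card Y : ℂ) ≠ 0 := Nat.cast_ne_zero.2 Nat.card_pos.ne'
    have hidx : (Y.index : ℂ) ≠ 0 := Nat.cast_ne_zero.2 Subgroup.index_ne_zero_of_finite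
    have h3 : (Nat.card Y : ℂ) * ((Nat.card G : ℂ) ^ 2 * ((δ : ℂ) * (D / dG))) =
        (Nat.card G : ℂ) * ((Nat.card Y : ℂ) ^ 2 * (D / (e : ℂ))) := by
      rw [← hG2, ← hY2, hC, ← mul_assoc, hTG, mul_assoc]
    rw [hcard] at h3
    field_simp at h3
    linear_combination -h3
  -- the exceptional characters are induced
  have hδ : δ = 1 := by
    rcases S.sign with h | h
    · exact h
    · exfalso
      have h4 := hdG
      simp only [dG, h] at h4
      rw [← Chars17.cast_irrDegree] at h4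
      have h5 : (charDegree (μ ψ₀ : G → ℂ) : ℤ) = (-1) * ((Y.index : ℤ) * e) := by exact_mod_cast h4
      have := Chars17.irrDegree_pos (μ ψ₀)
      have : (0 : ℤ) ≤ (Y.index : ℤ) * e := by positivity
      omega
  rw [hδ, Int.cast_one, one_smul] at hind
  rw [hδ, Int.cast_one, one_mul] at hdG
  have hcharY : ∀ θ : IrrCharacter Y, IsCharacter G (indFun Y (θ : Y → ℂ)) := fun θ =>
    CfsgLib.Induction.isCharacter_indFun Y (irr_isCharacter θ)
  have hmult : classInner (indFun Y (θ₀ : Y → ℂ)) (μ ψ₀ : G → ℂ) ≠ 0 := by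
    obtain ⟨m, -, hm', -⟩ := Chars17.exists_decomp (hcharY θ₁)
    have h1 : classInner (indFun Y (θ₀ : Y → ℂ)) (μ ψ₀ : G → ℂ) =
        ((m (μ ψ₀) + 1 : ℕ) : ℂ) := by
      have h2 : indFun Y (θ₀ : Y → ℂ) =
          indFun Y (θ₁ : Y → ℂ) + ((μ ψ₀ : G → ℂ) - (μ ψ₁ : G → ℂ)) := by
        rw [← hind, hαdef, CfsgLib.Induction.indFun_sub, add_sub_cancel]
      rw [h2, classInner_add_left, hm', classInner_sub_left, classInner_irr, classInner_irr,
        if_pos rfl, if_neg hne01.symm]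
      push_cast
      ring
    rw [h1]
    exact Nat.cast_ne_zero.2 (Nat.succ_ne_zero (m (μ ψ₀)))
  have hdeg1 : indFun Y (θ₀ : Y → ℂ) 1 = dG := by
    rw [CfsgLib.Induction.indFun_one_apply, (hTψ ψ₀ hψ₀).2.1, hdG]
  have hirr : indFun Y (θ₀ : Y → ℂ) = (μ ψ₀ : G → ℂ) := by
    refine Chars17.eq_of_classInner_ne_of_degree_le (hcharY θ₀) (μ ψ₀) hmult (le_of_eq ?_)
    have h1 := Chars17.cast_charDegree (hcharY θ₀)
    rw [hdeg1] at h1
    have h2 := Chars17.cast_irrDegree (μ ψ₀)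
    exact_mod_cast h1.trans h2.symm
  -- but an induced character is bigger on the odd core
  set f : Y → ℂ := fun g => indFun Y (θ₀ : Y → ℂ) g
  have h1 : classInner f (θ₀ : Y → ℂ) = 1 := by
    have h := classInner_irr (μ ψ₀) (μ ψ₀)
    rw [if_pos rfl] at h
    conv at h => lhs; arg 2; rw [← hirr]
    rw [CfsgLib.Induction.classInner_indFun_right Y (θ₀ : Y → ℂ) (irr_isClassFunction _)] at h
    simp only [f, hirr]
    exact h
  obtain ⟨-, h01, hO, hzero⟩ := hTψ ψ₀ hψ₀
  have hge : ∀ o ∈ pPrimeCore 2 Y, ∃ r : ℝ, 0 ≤ r ∧ f o = (e : ℂ) + (r : ℂ) := by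
    intro o ho
    have hoodd : ¬ 2 ∣ orderOf o := fun h =>
      CfsgLib.PCore.not_dvd_card_pPrimeCore (h.trans (Subgroup.orderOf_dvd_natCard _ ho))
    have hterm : ∀ x : G, ∃ r : ℝ, 0 ≤ r ∧
        extendByZero Y (θ₀ : Y → ℂ) (x⁻¹ * o * x) = (r : ℂ) := by
      intro x
      by_cases hx : x⁻¹ * (o : G) * x ∈ Y
      · rw [Induction.extendByZero_mem Y _ hx]
        by_cases hxo : (⟨_, hx⟩ : Y) ∈ pPrimeCore 2 Y
        · exact ⟨e, by positivity, by rw [hO _ hxo]; simp⟩
        · refine ⟨0, le_rfl, ?_⟩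
          rw [hzero _ ?_ hxo, Complex.ofReal_zero]
          rw [← Subgroup.orderOf_coe]
          show ¬ 2 ∣ orderOf (x⁻¹ * (o : G) * x)
          rw [show x⁻¹ * (o : G) * x = MulAut.conj x⁻¹ (o : G) by simp, MulEquiv.orderOf_eq,
            Subgroup.orderOf_coe]
          exact hoodd
      · exact ⟨0, le_rfl, by rw [Induction.extendByZero_notMem Y _ hx]; simp⟩
    choose r hr0 hr using hterm
    refine ⟨(Nat.card Y : ℝ)⁻¹ * ∑ x ∈ Finset.univ.filter (fun x : G => ¬ x ∈ Y), r x,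
      mul_nonneg (by positivity) (Finset.sum_nonneg fun x _ => hr0 x), ?_⟩
    show indFun Y (θ₀ : Y → ℂ) (o : G) = _
    rw [Induction.indFun_apply, ← Finset.sum_filter_add_sum_filter_not Finset.univ (· ∈ Y),
      mul_add, Finset.sum_congr rfl (g := fun _ => (e : ℂ))
        (fun x hx => ?_), Finset.sum_const, nsmul_eq_mul,
      show (Finset.univ.filter fun x : G => x ∈ Y).card = Nat.card Y by
        rw [Nat.card_eq_fintype_card, Fintype.card_subtype], ← mul_assoc,
      inv_mul_cancel₀ (Nat.cast_ne_zero.2 Nat.card_pos.ne'), one_mul,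
      Finset.sum_congr rfl fun x _ => hr x]
    · push_cast
      rfl
    · have h := Induction.extendByZero_conj Y (irr_isClassFunction θ₀)
        (⟨x, (Finset.mem_filter.1 hx).2⟩ : Y)⁻¹ (o : G)
      rw [Induction.extendByZero_coe, hO o ho] at h
      simpa using h
  have h2 : ∑ g : Y, (f g - (θ₀ : Y → ℂ) g) * conj ((θ₀ : Y → ℂ) g) = 0 := by
    have h3 := classInner_irr θ₀ θ₀
    rw [if_pos rfl] at h3
    have hcY : (Nat.card Y : ℂ)⁻¹ ≠ 0 := inv_ne_zero (Nat.cast_ne_zero.2 Nat.card_pos.ne')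
    refine mul_left_cancel₀ hcY ?_
    rw [mul_zero]
    simp only [sub_mul, Finset.sum_sub_distrib, mul_sub]
    rw [sub_eq_zero]
    exact h1.trans h3.symm
  rw [← Finset.sum_filter_add_sum_filter_not Finset.univ (fun g : Y => g ∈ pPrimeCore 2 Y),
    Finset.sum_eq_zero (s := Finset.univ.filter fun g : Y => ¬ g ∈ pPrimeCore 2 Y) (fun g hg => ?_),
    add_zero] at h2
  swap
  · by_cases h2g : 2 ∣ orderOf g
    · simp only [f, hY.indFun_singular (irr_isClassFunction θ₀) h2g, sub_self, zero_mul]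
    · rw [hzero g h2g (Finset.mem_filter.1 hg).2, map_zero, mul_zero]
  choose r hr0 hr using hge
  have hsum : ∑ g ∈ (Finset.univ.filter fun g : Y => g ∈ pPrimeCore 2 Y).attach,
      r g.1 (Finset.mem_filter.1 g.2).2 = 0 := by
    have h3 : ((∑ g ∈ (Finset.univ.filter fun g : Y => g ∈ pPrimeCore 2 Y).attach,
        r g.1 (Finset.mem_filter.1 g.2).2 : ℝ) : ℂ) * (e : ℂ) = 0 := by
      rw [← h2, Complex.ofReal_sum, Finset.sum_mul,
        ← Finset.sum_attach (Finset.univ.filter fun g : Y => g ∈ pPrimeCore 2 Y)]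
      refine Finset.sum_congr rfl fun g _ => ?_
      rw [hr g.1 (Finset.mem_filter.1 g.2).2, hO g.1 (Finset.mem_filter.1 g.2).2, map_natCast]
      ring
    exact_mod_cast (mul_eq_zero.1 h3).resolve_right heC
  have h4 := (Finset.sum_eq_zero_iff_of_nonneg fun g _ => hr0 g.1 _).1 hsum
    ⟨1, Finset.mem_filter.2 ⟨Finset.mem_univ _, one_mem _⟩⟩ (Finset.mem_attach _ _)
  have h5 := hr 1 (one_mem _)
  rw [show r 1 (one_mem _) = 0 from h4, Complex.ofReal_zero, add_zero] at h5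
  simp only [f, Subgroup.coe_one] at h5
  rw [hdeg1, hdG] at h5
  have h6 : (Y.index : ℂ) = 1 := mul_right_cancel₀ heC (h5.trans (one_mul _).symm)
  exact hY.ne_top (Subgroup.index_eq_one.1 (by exact_mod_cast h6))

end CfsgLib.InertPrime
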