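import Mathlib.GroupTheory.OrderOfElement
import Mathlib.Data.ZMod.Basic
import Mathlib.GroupTheory.PGroup
import Mathlib.GroupTheory.Index

/-!
# Abelian 2-groups of rank two with a fixed point free automorphism
-/

set_option autoImplicit false
set_option linter.style.haveILetI false
set_option linter.unusedVariables false

noncomputable section

namespace CfsgLib.InertPrime

universe u

variable {A : Type u} [CommGroup A] [Finite A]

theorem card_ker_pow_le (h4 : Nat.card (powMonoidHom 2 : A →* A).ker ≤ 4) (m : ℕ) :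
    Nat.card (powMonoidHom (2 ^ m) : A →* A).ker ≤ 4 ^ m := by
  induction m with
  | zero =>
    rw [pow_zero, pow_zero]
    refine le_of_eq (Subgroup.card_eq_one.2 ((Subgroup.eq_bot_iff_forall _).2 fun x hx => ?_))
    simpa using hx
  | succ m ih =>
    set K := (powMonoidHom (2 ^ (m + 1)) : A →* A).ker
    set f := (powMonoidHom (2 ^ m) : A →* A).domRestrict K
    have hker : Nat.card f.ker ≤ 4 ^ m := by
      refine le_trans (Nat.card_le_card_of_injective
        (fun x : f.ker => (⟨((x : K) : A), MonoidHom.mem_ker.2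
          (show ((x : K) : A) ^ 2 ^ m = 1 from MonoidHom.mem_ker.1 x.2)⟩ :
            (powMonoidHom (2 ^ m) : A →* A).ker))
        fun a b h => ?_) ih
      have h' := congrArg (fun z : (powMonoidHom (2 ^ m) : A →* A).ker => (z : A)) h
      exact Subtype.ext (Subtype.ext h')
    have hran : Nat.card f.range ≤ 4 := by
      refine le_trans (Subgroup.card_le_of_le ?_) h4
      rintro _ ⟨x, rfl⟩
      show ((x : A) ^ 2 ^ m) ^ 2 = 1
      rw [← pow_mul, ← pow_succ]
      exact x.2
    calc Nat.card K = f.ker.index * Nat.card f.ker := (f.ker.index_mul_card).symm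
      _ ≤ 4 * 4 ^ m := by rw [Subgroup.index_ker]; exact Nat.mul_le_mul hran hker
      _ = 4 ^ (m + 1) := by ring

/-- Four involution roots of unity, a fixed point free automorphism and a non-involution: the group
is homocyclic of rank two. -/
theorem exists_homocyclic_equiv (hA : IsPGroup 2 A)
    (h4 : Nat.card (powMonoidHom 2 : A →* A).ker ≤ 4) (σ : MulAut A)
    (hσ : ∀ x : A, σ x = x → x = 1) {w : A} (hw : w ^ 2 ≠ 1) :
    ∃ m : ℕ, 2 ≤ m ∧ Nonempty (A ≃* Multiplicative (ZMod (2 ^ m) × ZMod (2 ^ m))) := by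
  classical
  obtain ⟨g, hg⟩ := Monoid.exists_orderOf_eq_exponent (G := A) Monoid.ExponentExists.of_finite
  obtain ⟨m, hm⟩ := IsPGroup.iff_orderOf.1 hA g
  have hexp : ∀ x : A, x ^ 2 ^ m = 1 := fun x => by
    rw [← hm, hg]; exact Monoid.pow_exponent_eq_one x
  have hm2 : 2 ≤ m := by
    by_contra hlt
    refine hw ?_
    rcases (show m = 0 ∨ m = 1 by omega) with rfl | rfl
    · have h := hexp w
      rw [pow_zero, pow_one] at h
      rw [h, one_pow]
    · simpa using hexp w
  refine ⟨m, hm2, ?_⟩
  set n := 2 ^ m with hn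
  have hn1 : 1 < n := Nat.one_lt_two_pow (by omega)
  let z : A → (ZMod n →+ Additive A) := fun c => ZMod.lift n ⟨zmultiplesHom (Additive A)
    (Additive.ofMul c), by
      show (n : ℤ) • Additive.ofMul c = 0
      rw [natCast_zsmul, ← ofMul_pow, hexp, ofMul_one]⟩
  let f : Multiplicative (ZMod n × ZMod n) →* A :=
    AddMonoidHom.toMultiplicativeLeft ((z g).coprod (z (σ g)))
  have hz : ∀ (c : A) (i : ℕ), Additive.toMul (z c (i : ZMod n)) = c ^ i := fun c i => by
    show Additive.toMul (ZMod.lift n _ (i : ZMod n)) = c ^ i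
    rw [← Int.cast_natCast (R := ZMod n), ZMod.lift_coe]
    simp [zmultiplesHom_apply]
  have hf : ∀ i j : ℕ, f (Multiplicative.ofAdd ((i : ZMod n), (j : ZMod n))) = g ^ i * (σ g) ^ j :=
    fun i j => by
      show Additive.toMul (z g (i : ZMod n) + z (σ g) (j : ZMod n)) = _
      rw [toMul_add, hz, hz]
  have hdisj : ∀ x ∈ Subgroup.zpowers g, x ∈ Subgroup.zpowers (σ g) → x = 1 := by
    intro x hx hx'
    by_contra hx1
    set H := Subgroup.zpowers g ⊓ Subgroup.zpowers (σ g)
    have hH : 2 ∣ Nat.card H := by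
      obtain ⟨k, hk⟩ := (hA.to_subgroup H).exists_card_eq
      rw [hk]
      refine dvd_pow_self 2 fun h0 => hx1 ?_
      rw [h0, pow_zero, Subgroup.card_eq_one] at hk
      have : x ∈ H := ⟨hx, hx'⟩
      rwa [hk, Subgroup.mem_bot] at this
    haveI := Fact.mk Nat.prime_two
    obtain ⟨⟨y, hy1, hy2⟩, hy⟩ := exists_prime_orderOf_dvd_card' (G := H) 2 hH
    rw [← Subgroup.orderOf_coe] at hy
    dsimp only at hy
    -- the involution of a cyclic group is unique
    have huniq : ∀ c : A, orderOf c = n → y ∈ Subgroup.zpowers c → y = c ^ 2 ^ (m - 1) := by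
      intro c hc hyc
      obtain ⟨i, hi, rfl⟩ : ∃ i < n, c ^ i = y := by
        rw [(isOfFinOrder_of_finite c).mem_zpowers_iff_mem_range_orderOf] at hyc
        obtain ⟨i, hi, he⟩ := Finset.mem_image.1 hyc
        exact ⟨i, hc ▸ Finset.mem_range.1 hi, he⟩
      have h2 : c ^ (i * 2) = 1 := by rw [pow_mul]; exact orderOf_dvd_iff_pow_eq_one.1 (dvd_of_eq hy)
      obtain ⟨t, ht⟩ := orderOf_dvd_of_pow_eq_one h2
      rw [hc] at ht
      have hi0 : i ≠ 0 := fun h0 => by rw [h0, pow_zero, orderOf_one] at hy; omega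
      have : t = 1 := by
        rcases Nat.lt_or_ge t 2 with h | h
        · interval_cases t <;> omega
        · have := Nat.mul_le_mul_left n h; omega
      subst this
      congr 1
      have e : n = 2 ^ (m - 1) * 2 := by rw [hn, ← pow_succ, Nat.sub_add_cancel (by omega)]
      omega
    have e1 := huniq g hm hy1
    have e2 := huniq (σ g) (by rw [MulEquiv.orderOf_eq, hm]) hy2
    have h1 : σ y = y := by rw [e1, map_pow, ← e2, e1]
    rw [hσ y h1, orderOf_one] at hy
    omega
  have hinj : Function.Injective f := by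
    refine (injective_iff_map_eq_one f).2 fun v hv => ?_
    obtain ⟨⟨i, j⟩, rfl⟩ := (Multiplicative.ofAdd).surjective v
    haveI : NeZero n := ⟨by omega⟩
    rw [← ZMod.natCast_zmod_val i, ← ZMod.natCast_zmod_val j] at hv ⊢
    rw [hf] at hv
    have h1 : g ^ i.val = ((σ g) ^ j.val)⁻¹ := eq_inv_of_mul_eq_one_left hv
    have h2 := hdisj _ (pow_mem (Subgroup.mem_zpowers g) i.val)
      (h1 ▸ inv_mem (pow_mem (Subgroup.mem_zpowers (σ g)) _))
    have hi := Nat.eq_zero_of_dvd_of_lt ((dvd_of_eq hm.symm).trans (orderOf_dvd_of_pow_eq_one h2))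
      (ZMod.val_lt i)
    rw [h2, one_mul] at hv
    have hj := Nat.eq_zero_of_dvd_of_lt
      ((dvd_of_eq ((MulEquiv.orderOf_eq σ g).trans hm).symm).trans
        (orderOf_dvd_of_pow_eq_one hv)) (ZMod.val_lt j)
    rw [hi, hj, Nat.cast_zero]
    rfl
  have hc : Nat.card A ≤ Nat.card (Multiplicative (ZMod n × ZMod n)) := by
    have htop : (powMonoidHom n : A →* A).ker = ⊤ := eq_top_iff.2 fun x _ => hexp x
    have h := card_ker_pow_le h4 m
    rw [← hn, htop, Subgroup.card_top] at h
    rw [Nat.card_congr Multiplicative.toAdd, Nat.card_prod, Nat.card_zmod]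
    exact h.trans_eq (by rw [hn, ← mul_pow]; norm_num)
  exact ⟨(MulEquiv.ofBijective f (hinj.bijective_of_nat_card_le hc)).symm⟩

end CfsgLib.InertPrime
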