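import Cfsg.Agent.Lib.InertPrime.Contra
import Cfsg.Agent.Lib.InertPrime.HomoTwo
import Cfsg.Agent.Lib.AbelTwo.Elementary
import Cfsg.Agent.Lib.AbelTwo.Stab
import Cfsg.Agent.Lib.Elem16.Main
import Cfsg.Agent.S0949

/-!
# An abelian Sylow 2-subgroup with a free automiser of prime order
-/

set_option autoImplicit false
set_option linter.style.haveILetI false
set_option linter.unusedSectionVars false
set_option linter.unusedVariables false
set_option maxHeartbeats 800000

noncomputable section

namespace CfsgLib.InertPrime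

open Cfsg CfsgLib.Characters CfsgLib.AbelianFrob CfsgLib.Blocks
open scoped ComplexConjugate Classical

universe u

variable {G : Type u} [Group G] [Fintype G] [hp2 : Fact (Nat.Prime 2)] {M : Ideal AlgInt}
variable (P : Sylow 2 G) (hab : IsMulCommutative ↥(P : Subgroup G)) (hfrob : Fpf P)

include hab hfrob in
theorem solvable_centralizer {a : G} (ha : a ∈ (P : Subgroup G)) (ha1 : a ≠ 1) :
    Group.IsSolvable (Subgroup.centralizer ({a} : Set G)) := by
  obtain ⟨k, hk, -⟩ := centralizer_core_index P hab hfrob ha ha1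
  set C := Subgroup.centralizer ({a} : Set G)
  haveI := pPrimeCore_normal 2 C
  refine ConstDiff.isSolvable_of_normal (pPrimeCore 2 C)
    (ConstDiff.isSolvable_of_odd_card CfsgLib.PCore.not_dvd_card_pPrimeCore) ?_
  haveI : Finite (C ⧸ pPrimeCore 2 C) := inferInstance
  have hp : IsPGroup 2 (C ⧸ pPrimeCore 2 C) := IsPGroup.of_card (n := k) (by
    rw [← Subgroup.index_eq_card, hk])
  haveI := hp.isNilpotent
  infer_instance

include hab hfrob in
/-- One class of involutions and an elementary Sylow subgroup: a single orbit. -/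
theorem single_orbit (hel : ∀ a ∈ (P : Subgroup G), a * a = 1)
    (hone : ∀ s t : G, orderOf s = 2 → orderOf t = 2 → IsConj s t) :
    Nat.card ↥(P : Subgroup G) ≤ (CP P).relIndex (NP P) + 1 := by
  by_cases htriv : ∀ a ∈ (P : Subgroup G), a = 1
  · have : Nat.card ↥(P : Subgroup G) = 1 := Subgroup.card_eq_one.2
      ((Subgroup.eq_bot_iff_forall _).2 htriv)
    omega
  push Not at htriv
  obtain ⟨a, ha, ha1⟩ := htriv
  have ho : ∀ b ∈ (P : Subgroup G), b ≠ 1 → orderOf b = 2 := fun b hb hb1 =>
    orderOf_eq_prime (by rw [pow_two]; exact hel b hb) hb1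
  set C := (CP P).subgroupOf (NP P)
  haveI : Fintype (↥(NP P) ⧸ C) := Fintype.ofFinite _
  let g : Option (↥(NP P) ⧸ C) → ↥(P : Subgroup G) := fun o => match o with
    | none => 1
    | some q => ⟨(q.out : G) * a * (q.out : G)⁻¹, (Subgroup.mem_normalizer_iff.1 q.out.2 a).1 ha⟩
  have hg : Function.Surjective g := by
    intro b
    by_cases hb : b = 1
    · exact ⟨none, hb.symm⟩
    obtain ⟨x, hx⟩ := isConj_iff.1 (hone a b (ho a ha ha1) (ho b b.2 fun h => hb (Subtype.ext h)))
    obtain ⟨n, hn, hne⟩ := fusion P hab ha (g := x) (by rw [hx]; exact b.2)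
    refine ⟨some (QuotientGroup.mk ⟨n, hn⟩), Subtype.ext ?_⟩
    obtain ⟨c, hc⟩ := QuotientGroup.mk_out_eq_mul C ⟨n, hn⟩
    show (((QuotientGroup.mk ⟨n, hn⟩ : ↥(NP P) ⧸ C).out : ↥(NP P)) : G) * a *
      (((QuotientGroup.mk ⟨n, hn⟩ : ↥(NP P) ⧸ C).out : ↥(NP P)) : G)⁻¹ = b
    rw [hc, Subgroup.coe_mul, ← hx, ← hne]
    have hcC : a * ((c : ↥(NP P)) : G) = ((c : ↥(NP P)) : G) * a :=
      Subgroup.mem_centralizer_iff.1 (Subgroup.mem_subgroupOf.1 c.2) a ha
    rw [mul_inv_rev, show n * ((c : ↥(NP P)) : G) * a * (((c : ↥(NP P)) : G)⁻¹ * n⁻¹) =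
      n * (((c : ↥(NP P)) : G) * a) * ((c : ↥(NP P)) : G)⁻¹ * n⁻¹ by group, ← hcC]
    group
  have h := Nat.card_le_card_of_surjective g hg
  rw [Nat.card_eq_fintype_card (α := Option _), Fintype.card_option, ← Nat.card_eq_fintype_card,
    ← Subgroup.index_eq_card] at h
  exact h

include hab hfrob in
/-- Several orbits force solvability. -/
theorem solvable_of_large (hM : IsPModular 2 M) (he : ((CP P).relIndex (NP P)).Prime)
    (hm : (CP P).relIndex (NP P) + 1 < Nat.card ↥(P : Subgroup G)) : Group.IsSolvable G := by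
  by_contra hns
  set e := (CP P).relIndex (NP P) with hedef
  obtain ⟨μ, A, d, δ, S⟩ := exists_struct P (M := M) hab hfrob hM hm
  obtain ⟨k, hk⟩ := P.2.exists_card_eq
  have hmul := S.card_exc_mul hab hfrob
  have he3 : 3 ≤ e := by
    rcases Nat.lt_or_ge e 3 with h | h
    · exfalso
      have h2 : e = 2 := by have := he.two_le; omega
      rw [← hedef, h2, hk] at hmul
      rw [hk] at hm
      rcases k with _ | k
      · simp at hm
      · rw [pow_succ] at hmul hm
        have := Nat.one_le_two_pow (n := k)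
        omega
    · exact h
  have habP : ∀ a ∈ (P : Subgroup G), ∀ b ∈ (P : Subgroup G), a * b = b * a := fun a ha b hb =>
    congrArg Subtype.val (hab.is_comm.comm (⟨a, ha⟩ : (P : Subgroup G)) ⟨b, hb⟩)
  have hsol : ∀ a ∈ (P : Subgroup G), a ≠ 1 →
      Group.IsSolvable (Subgroup.centralizer ({a} : Set G)) := fun a ha ha1 =>
    solvable_centralizer P hab hfrob ha ha1
  by_cases hel : ∀ a ∈ (P : Subgroup G), a * a = 1
  · have h8 : 8 ≤ Nat.card ↥(P : Subgroup G) := by
      rw [hk] at hm ⊢
      by_contra hlt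
      have : k < 3 := by
        by_contra h
        exact hlt (le_trans (by norm_num) (Nat.pow_le_pow_right two_pos (Nat.le_of_not_lt h)))
      interval_cases k <;> omega
    rcases ConstDiff.solvable_or_one_class P habP hel h8 hsol with h | h
    · exact hns h
    · have := single_orbit P hab hfrob hel h
      omega
  · push Not at hel
    obtain ⟨w, hw, hw2⟩ := hel
    rcases Nat.lt_or_ge (Nat.card {a : G // a ∈ (P : Subgroup G) ∧ a * a = 1}) 8 with hlt | hge
    · -- rank two
      haveI := hab
      letI : CommGroup ↥(P : Subgroup G) :=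
        { (inferInstance : Group ↥(P : Subgroup G)) with mul_comm := mul_comm' }
      set sq : ↥(P : Subgroup G) →* ↥(P : Subgroup G) := powMonoidHom 2
      have hker : Nat.card sq.ker = Nat.card {a : G // a ∈ (P : Subgroup G) ∧ a * a = 1} :=
        Nat.card_congr
          { toFun := fun x => ⟨((x : ↥(P : Subgroup G)) : G), (x : ↥(P : Subgroup G)).2, by
              have := congrArg Subtype.val (show (x : ↥(P : Subgroup G)) ^ 2 = 1 from x.2)
              simpa [pow_two] using this⟩
            invFun := fun a => ⟨⟨a.1, a.2.1⟩, show (⟨a.1, a.2.1⟩ : ↥(P : Subgroup G)) ^ 2 = 1 from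
              Subtype.ext (by simpa [pow_two] using a.2.2)⟩
            left_inv := fun x => rfl
            right_inv := fun a => rfl }
      have h4 : Nat.card sq.ker ≤ 4 := by
        obtain ⟨j, hj⟩ := (P.2.to_subgroup sq.ker).exists_card_eq
        rw [hj] at hker ⊢
        rw [← hker] at hlt
        by_contra h
        have : 3 ≤ j := by
          by_contra h'
          exact h (le_trans (Nat.pow_le_pow_right two_pos (show j ≤ 2 by omega)) (by norm_num))
        have := Nat.pow_le_pow_right two_pos this
        omega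
      obtain ⟨n, hn, hnC⟩ : ∃ n ∈ NP P, n ∉ CP P := by
        by_contra h
        push Not at h
        rw [hedef, Subgroup.relIndex_eq_one.2 h] at he3
        omega
      obtain ⟨m, hm2, ⟨iso⟩⟩ := exists_homocyclic_equiv P.2 h4
        ((P : Subgroup G).normalizerMonoidHom ⟨n, hn⟩) (fun x hx => by
          by_contra hx1
          refine hnC ?_
          rw [← hfrob (x : G) x.2 fun h => hx1 (Subtype.ext h)]
          exact ⟨Subgroup.mem_centralizer_singleton_iff.2
            (mul_inv_eq_iff_eq_mul.1 (congrArg Subtype.val hx)), hn⟩)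
        (w := ⟨w, hw⟩) (fun h => hw2 (by simpa [pow_two] using congrArg Subtype.val h))
      -- modulo the odd core
      set O := pPrimeCore 2 G
      haveI : O.Normal := pPrimeCore_normal 2 G
      set π := QuotientGroup.mk' O
      set PQ : Sylow 2 (G ⧸ O) := P.mapSurjective (QuotientGroup.mk'_surjective O)
      have hPQ : (PQ : Subgroup (G ⧸ O)) = (P : Subgroup G).map π := Sylow.coe_mapSurjective ..
      have hinjP : Function.Injective (π.comp (P : Subgroup G).subtype) := by
        rw [← MonoidHom.ker_eq_bot_iff, Subgroup.eq_bot_iff_forall]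
        intro x hx
        have hxO : (x : G) ∈ (P : Subgroup G) ⊓ O := ⟨x.2, (QuotientGroup.eq_one_iff _).1 hx⟩
        rw [CfsgLib.PCore.inf_eq_bot_of_isPGroup_coprime P.2
          (CfsgLib.PCore.coprime_of_not_dvd_card CfsgLib.PCore.not_dvd_card_pPrimeCore),
          Subgroup.mem_bot] at hxO
        exact Subtype.ext hxO
      have e1 : ↥(PQ : Subgroup (G ⧸ O)) ≃* ↥(P : Subgroup G) :=
        (MulEquiv.subgroupCongr (by rw [hPQ, MonoidHom.range_comp, Subgroup.range_subtype])).trans
          (MonoidHom.ofInjective hinjP).symm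
      obtain ⟨hN, -, hidx⟩ := Cfsg.Agent.S0949.result PQ m hm2 (e1.trans iso) (fun N hN hodd => by
        haveI := hN
        have h := CfsgLib.PCore.le_pPrimeCore_of_not_dvd (p := 2) (N := N) hN
          (by rw [← even_iff_two_dvd]; exact Nat.not_even_iff_odd.2 hodd)
        rwa [CfsgLib.PCore.pPrimeCore_quotient_pPrimeCore, le_bot_iff] at h)
      haveI := hN
      refine hns (ConstDiff.isSolvable_of_normal O
        (ConstDiff.isSolvable_of_odd_card CfsgLib.PCore.not_dvd_card_pPrimeCore) ?_)
      haveI := PQ.2.isNilpotent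
      refine ConstDiff.isSolvable_of_normal (PQ : Subgroup (G ⧸ O)) inferInstance
        (ConstDiff.isSolvable_of_odd_card ?_)
      rw [← Subgroup.index_eq_card]
      rcases hidx with h | h <;> rw [h] <;> norm_num
    · rcases solvable_or_big P habP hge (fun a ha ha1 _ => hsol a ha ha1) with h | ⟨Y, hY⟩
      · exact hns h
      · exact no_big hY hM hab hfrob he hw hw2

include hab hfrob in
/-- The invariants of the principal block. -/
theorem invariants (hM : IsPModular 2 M) (he : ((CP P).relIndex (NP P)).Prime)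
    (hP : Nat.card ↥(P : Subgroup G) ≠ 1) :
    blockRank 2 (principalBlock M G) = (CP P).relIndex (NP P) ∧
      (¬ Group.IsSolvable G → Nat.card (principalBlock M G) = Nat.card ↥(P : Subgroup G)) := by
  set e := (CP P).relIndex (NP P) with hedef
  have hbound := fun (R : Subgroup G) hR hinv {r : G} (hr : r ∈ R) hr1 =>
    succ_le_card_invariant P hfrob R hR hinv hr hr1
  obtain ⟨a₀, ha₀, ha₀1⟩ : ∃ a ∈ (P : Subgroup G), a ≠ 1 := by
    by_contra h
    push Not at h
    exact hP (Subgroup.card_eq_one.2 ((Subgroup.eq_bot_iff_forall _).2 h))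
  have hle : e + 1 ≤ Nat.card ↥(P : Subgroup G) :=
    hbound _ le_rfl (fun n hn r hr => (Subgroup.mem_normalizer_iff.1 hn r).1 hr) ha₀ ha₀1
  rcases hle.lt_or_eq with hm | heq
  · haveI := solvable_of_large P hab hfrob hM he hm
    obtain ⟨μ, A, d, δ, S⟩ := exists_struct P (M := M) hab hfrob hM hm
    obtain ⟨φ, hφ⟩ : ∃ φ : Dual P, φ ≠ 1 := by
      by_contra h
      push Not at h
      have : Nat.card (Dual P) = 1 :=
        Nat.card_eq_one_iff_unique.2 ⟨⟨fun a b => (h a).trans (h b).symm⟩, ⟨1⟩⟩
      rw [card_dual P hab] at this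
      omega
    exact ⟨le_antisymm (rank_le P hab hfrob hM hm hφ S) (le_rank P hab hM he),
      fun h => absurd (inferInstance : Group.IsSolvable G) h⟩
  -- a single orbit
  haveI := hab
  letI : CommGroup ↥(P : Subgroup G) :=
    { (inferInstance : Group ↥(P : Subgroup G)) with mul_comm := mul_comm' }
  have habP : ∀ a ∈ (P : Subgroup G), ∀ b ∈ (P : Subgroup G), a * b = b * a := fun a ha b hb =>
    congrArg Subtype.val (hab.is_comm.comm (⟨a, ha⟩ : (P : Subgroup G)) ⟨b, hb⟩)
  have hel : ∀ a ∈ (P : Subgroup G), a * a = 1 := by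
    intro a ha
    by_contra hne
    obtain ⟨hq, -⟩ := nonelementary_facts P hab hfrob he.one_lt ha hne
    rw [← hedef, ← heq] at hq
    nlinarith [he.two_le]
  have ho : orderOf a₀ = 2 := orderOf_eq_prime (by rw [pow_two]; exact hel a₀ ha₀) ha₀1
  have hgood : CfsgLib.AbelTwo.Good P a₀ := CfsgLib.AbelTwo.good_of_stab habP ha₀ ho
    fun n hn hc q hq => by
      have hnC : n ∈ CP P := by
        rw [← hfrob a₀ ha₀ ha₀1]
        exact ⟨Subgroup.mem_centralizer_singleton_iff.2 hc, hn⟩
      exact (Subgroup.mem_centralizer_iff.1 hnC q hq).symm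
  obtain ⟨n, hn, hnC⟩ : ∃ n ∈ NP P, n ∉ CP P := by
    by_contra h
    push Not at h
    have := he.one_lt
    rw [hedef, Subgroup.relIndex_eq_one.2 h] at this
    omega
  set σ := (P : Subgroup G).normalizerMonoidHom ⟨n, hn⟩ with hσdef
  have hσ : orderOf σ = e := by
    have hd : orderOf σ ∣ e := by
      rw [hσdef, hedef, Subgroup.relIndex, ← Subgroup.normalizerMonoidHom_ker, Subgroup.index_ker]
      exact Subgroup.orderOf_dvd_natCard _ ⟨⟨n, hn⟩, rfl⟩
    refine ((Nat.dvd_prime he).1 hd).resolve_left fun h1 => hnC ?_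
    exact Subgroup.mem_centralizer_iff.2 fun q hq =>
      ((CfsgLib.AbelTwo.aut_eq_one_iff ⟨n, hn⟩).1 (orderOf_eq_one_iff.1 h1) q hq).symm
  have hk : Nat.card (principalBlock M G) = Nat.card ↥(P : Subgroup G) := by
    refine CfsgLib.AbelTwo.one_class hM hgood hel hn fun i h0 hi h => ?_
    have h1 : σ ^ i = 1 := by
      rw [hσdef, ← map_pow]
      refine (CfsgLib.AbelTwo.aut_eq_one_iff _).2 fun q hq => ?_
      have hnC : (((⟨n, hn⟩ : ↥(NP P)) ^ i : ↥(NP P)) : G) ∈ CP P := by
        rw [← hfrob a₀ ha₀ ha₀1]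
        refine ⟨Subgroup.mem_centralizer_singleton_iff.2 ?_, SetLike.coe_mem _⟩
        rw [Subgroup.coe_pow]
        exact mul_inv_eq_iff_eq_mul.1 h
      exact (Subgroup.mem_centralizer_iff.1 hnC q hq).symm
    have := Nat.le_of_dvd h0 (orderOf_dvd_of_pow_eq_one h1)
    rw [hσ] at this
    omega
  refine ⟨?_, fun _ => hk⟩
  -- the two sections
  have hx1 : a₀ ≠ 1 := ha₀1
  have hblk := CfsgLib.Blk7.card_block_eq hM (isPBlock_principalBlock (G := G) M) {1, a₀}
    (fun t ht => by
      simp only [Finset.mem_insert, Finset.mem_singleton] at ht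
      rcases ht with rfl | rfl
      · exact ⟨0, by simp⟩
      · exact ⟨1, by rw [ho, pow_one]⟩)
    (fun g hg => by
      obtain ⟨c, hc⟩ := CfsgLib.AbelTwo.exists_conj_mem P hg
      by_cases hg1 : g = 1
      · subst hg1
        exact ⟨1, ⟨by simp, IsConj.refl _⟩, fun s hs => (isConj_one_right.1 hs.2).trans rfl⟩
      · have hc1 : c * g * c⁻¹ ≠ 1 := fun e => hg1 (conj_eq_one_iff.1 e)
        set t := c * g * c⁻¹
        have hconj : IsConj g a₀ := by
          refine (isConj_iff.2 ⟨c, rfl⟩ : IsConj g t).trans ?_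
          by_contra hnot
          set C := (CP P).subgroupOf (NP P)
          haveI : Fintype (↥(NP P) ⧸ C) := Fintype.ofFinite _
          let f : Option (Option (↥(NP P) ⧸ C)) → ↥(P : Subgroup G) := fun o => match o with
            | none => ⟨t, hc⟩
            | some none => 1
            | some (some q) => ⟨(q.out : G) * a₀ * (q.out : G)⁻¹,
                (Subgroup.mem_normalizer_iff.1 q.out.2 a₀).1 ha₀⟩
          have hf : Function.Injective f := by
            rintro (_ | _ | q) (_ | _ | r) h <;> try rfl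
            · exact absurd (congrArg Subtype.val h) hc1
            · exact absurd (isConj_iff.2 ⟨_, (congrArg Subtype.val h).symm⟩ :
                IsConj a₀ t).symm hnot
            · exact absurd (congrArg Subtype.val h).symm hc1
            · exact absurd (congrArg Subtype.val h).symm
                (fun e => ha₀1 (conj_eq_one_iff.1 e))
            · exact absurd (isConj_iff.2 ⟨_, congrArg Subtype.val h⟩ :
                IsConj a₀ t).symm hnot
            · exact absurd (congrArg Subtype.val h) (fun e => ha₀1 (conj_eq_one_iff.1 e))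
            · have h' : (q.out : G) * a₀ * (q.out : G)⁻¹ = (r.out : G) * a₀ * (r.out : G)⁻¹ :=
                congrArg Subtype.val h
              refine congrArg (fun x => some (some x)) ?_
              rw [← q.out_eq', ← r.out_eq', QuotientGroup.eq, Subgroup.mem_subgroupOf,
                ← hfrob a₀ ha₀ ha₀1]
              refine ⟨Subgroup.mem_centralizer_singleton_iff.2 ?_, SetLike.coe_mem _⟩
              rw [Subgroup.coe_mul, Subgroup.coe_inv]
              calc (q.out : G)⁻¹ * (r.out : G) * a₀
                  = (q.out : G)⁻¹ * ((r.out : G) * a₀ * (r.out : G)⁻¹) * (r.out : G) := by group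
                _ = (q.out : G)⁻¹ * ((q.out : G) * a₀ * (q.out : G)⁻¹) * (r.out : G) := by rw [h']
                _ = a₀ * ((q.out : G)⁻¹ * (r.out : G)) := by group
          have h := Nat.card_le_card_of_injective f hf
          rw [Nat.card_eq_fintype_card (α := Option _), Fintype.card_option, Fintype.card_option,
            ← Nat.card_eq_fintype_card, ← Subgroup.index_eq_card] at h
          change e + 1 + 1 ≤ _ at h
          omega
        refine ⟨a₀, ⟨by simp, hconj⟩, fun s hs => ?_⟩
        obtain ⟨hs1, hs2⟩ := hs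
        simp only [Finset.mem_insert, Finset.mem_singleton] at hs1
        rcases hs1 with rfl | rfl
        · exact absurd (isConj_one_left.1 hs2) hg1
        · rfl)
  rw [Finset.sum_pair hx1.symm,
    CfsgLib.Blk7.finrank_regSpan_inducing_one hM (isPBlock_principalBlock M),
    CfsgLib.Elem16.inducing_principal hM ⟨1, by rw [ho, pow_one]⟩,
    ← CfsgLib.Blk7.blockRank_eq, CfsgLib.Elem16.rank_one_of_complement hM hgood.compl, hk] at hblk
  omega

end CfsgLib.InertPrime
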