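import Cfsg.Agent.Lib.AbelianFrob.Derived
import Cfsg.Prelude.Def_BlockRank

/-!
# Exceptional characters with a small automiser

When `e + 2 ≤ t` the exceptional characters are constant multiples of the orbit sums on the Sylow
subgroup, and the regular rank of the principal block is at most `e`.
-/

set_option autoImplicit false
set_option linter.style.haveILetI false
set_option linter.unusedSectionVars false
set_option linter.unusedVariables false

noncomputable section

namespace CfsgLib.InertPrime

open Cfsg CfsgLib.Characters CfsgLib.AbelianFrob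
open scoped ComplexConjugate Classical

universe u

variable {G : Type u} [Group G] [Fintype G] {p : ℕ} [Fact p.Prime] (P : Sylow p G)
  {M : Ideal AlgInt}

/-- The sum of an orbit of linear characters. -/
def osum (ψ : Dual P) (y : ↥(P : Subgroup G)) : ℂ :=
  ∑ φ ∈ Finset.univ.filter (· ∈ orb P ψ), (φ y : ℂ)

variable (hab : IsMulCommutative ↥(P : Subgroup G)) (hfrob : Fpf P) (hM : IsPModular p M)

theorem finsum_orb (ψ : Dual P) (y : ↥(P : Subgroup G)) :
    ∑ᶠ φ ∈ orb P ψ, (φ y : ℂ) = osum P ψ y :=
  finsum_mem_eq_sum_of_inter_support_eq _ (by simp)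

include hab hfrob in
theorem osum_one {ψ : Dual P} (hψ : ψ ≠ 1) :
    osum P ψ 1 = ((CP P).relIndex (NP P) : ℂ) := by
  simp [osum, card_orb P hab hfrob hψ]

include hab hfrob in
/-- The squares of an orbit sum add up to `q e`. -/
theorem sum_norm_osum {ψ : Dual P} (hψ : ψ ≠ 1) :
    ∑ y : ↥(P : Subgroup G), osum P ψ y * conj (osum P ψ y) =
      (Nat.card ↥(P : Subgroup G) : ℂ) * ((CP P).relIndex (NP P) : ℂ) := by
  have h : ∀ φ φ' : Dual P, ∑ y : ↥(P : Subgroup G), (φ y : ℂ) * conj (φ' y : ℂ) =
      if φ = φ' then (Nat.card ↥(P : Subgroup G) : ℂ) else 0 := by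
    intro φ φ'
    have h1 := classInner_irr (linIrr P φ) (linIrr P φ')
    rw [classInner, inv_mul_eq_iff_eq_mul₀ (Nat.cast_ne_zero.2 Nat.card_pos.ne')] at h1
    by_cases e : φ = φ'
    · subst e
      rw [if_pos rfl, mul_one] at h1
      rw [if_pos rfl]
      exact h1
    · rw [if_neg fun e' => e (linIrr_injective P e'), mul_zero] at h1
      rw [if_neg e]
      exact h1
  simp only [osum, map_sum, Finset.sum_mul, Finset.mul_sum]
  rw [Finset.sum_comm, Finset.sum_congr rfl fun φ _ => Finset.sum_comm,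
    Finset.sum_congr rfl fun φ hφ => by
      rw [Finset.sum_congr rfl fun φ' _ => h φ' φ, Finset.sum_ite_eq', if_pos hφ],
    Finset.sum_const, card_orb P hab hfrob hψ, nsmul_eq_mul, mul_comm]

variable {μ : Dual P → IrrCharacter G} {A : IrrCharacter G → ℤ} {d δ : ℤ}

include hab hfrob hM in
/-- With enough exceptional characters the common value vanishes. -/
theorem d_eq_zero (S : Struct P M μ A d δ) {e : ℕ} (he : (CP P).relIndex (NP P) = e) (he1 : 1 ≤ e)
    (hq : e * (e + 2) + 1 ≤ Nat.card ↥(P : Subgroup G)) {ψ : Dual P} (hψ : ψ ≠ 1) : d = 0 := by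
  have hP : Nat.card ↥(P : Subgroup G) ≠ 1 := by
    intro h; rw [h] at hq; nlinarith
  have hm : (CP P).relIndex (NP P) + 1 < Nat.card ↥(P : Subgroup G) := by
    rw [he]; nlinarith
  obtain ⟨hpr, hA1⟩ := S.principal_mem_rest hab hfrob hM hm
  have h1 : (1 : ℤ) ≤ ∑ χ ∈ S.rest, A χ ^ 2 :=
    le_trans (by rw [hA1]; norm_num) (Finset.single_le_sum (fun χ _ => sq_nonneg (A χ)) hpr)
  have h2 := S.norm_eq hab hfrob hM hψ
  have h3 := S.card_exc_mul hab hfrob
  rw [he] at h2 h3
  have h4 : e + 2 ≤ S.exc.card := by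
    by_contra hlt
    have : e * S.exc.card ≤ e * (e + 1) := Nat.mul_le_mul_left _ (by omega)
    have h5 : e * (e + 2) ≤ e * (e + 1) :=
      le_trans (by omega) ((h3 ▸ this : Nat.card ↥(P : Subgroup G) - 1 ≤ e * (e + 1)))
    nlinarith
  have h4' : (e : ℤ) + 2 ≤ S.exc.card := by exact_mod_cast h4
  by_contra hd
  have hd1 : 1 ≤ d ^ 2 := by have := sq_pos_of_ne_zero hd; omega
  rcases S.sign with rfl | rfl <;>
    nlinarith [mul_le_mul_of_nonneg_right h4' (sq_nonneg d), sq_nonneg (d - 1), sq_nonneg (d + 1),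
      mul_nonneg (show (0 : ℤ) ≤ e by positivity) (show (0 : ℤ) ≤ d ^ 2 - 1 by linarith)]

include hab hfrob hM in
/-- The value of an exceptional character when the common value vanishes. -/
theorem value_exc_zero (S : Struct P M μ A d δ) (hd : d = 0) {ψ : Dual P} (hψ : ψ ≠ 1) {z : G} (y : ↥(P : Subgroup G))
    (hz : IsPPart p z y) (hy1 : (y : G) ≠ 1) :
    (μ ψ : G → ℂ) z = (δ : ℂ) * osum P ψ y := by
  rw [S.value_exc hab hfrob hM hψ y hz hy1, finsum_orb, hd, Int.cast_zero, zero_add]

include hab hfrob hM in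
/-- The regular rank of the principal block is at most the index. -/
theorem rank_le (hm : (CP P).relIndex (NP P) + 1 < Nat.card ↥(P : Subgroup G))
    {ψ : Dual P} (hψ : ψ ≠ 1) (S : Struct P M μ A d δ) :
    blockRank p (principalBlock M G) ≤ (CP P).relIndex (NP P) := by
  refine le_trans ?_ (S.card_rest_le hab hfrob hM hm hψ)
  set R := (fun χ : IrrCharacter G => pRegularPart p (χ : G → ℂ)) '' (S.rest : Set (IrrCharacter G))
  have hne : ((S.exc.card : ℂ) * d - δ) ≠ 0 := by
    have h2 : (2 : ℤ) ≤ S.exc.card := by exact_mod_cast S.two_le_card_exc hab hfrob hm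
    have h3 : (S.exc.card : ℤ) * d - δ ≠ 0 := by
      intro h
      rcases lt_trichotomy d 0 with hd | hd | hd
      · rcases S.sign with rfl | rfl <;> nlinarith
      · subst hd; rcases S.sign with rfl | rfl <;> simp at h
      · rcases S.sign with rfl | rfl <;> nlinarith
    exact_mod_cast h3
  have hle : Submodule.span ℂ
      ((fun χ : IrrCharacter G => pRegularPart p (χ : G → ℂ)) '' principalBlock M G) ≤
      Submodule.span ℂ R := by
    rw [Submodule.span_le]
    rintro _ ⟨χ, hχ, rfl⟩
    by_cases hr : χ ∈ S.rest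
    · exact Submodule.subset_span ⟨χ, hr, rfl⟩
    · have hexc : χ ∈ S.exc := by
        by_contra h
        exact hr (S.mem_rest.2 ⟨hχ, h⟩)
      obtain ⟨φ, hφ, rfl⟩ := S.mem_exc.1 hexc
      have e : pRegularPart p (μ φ : G → ℂ) = ∑ ξ ∈ S.rest,
          (-(A ξ : ℂ) / ((S.exc.card : ℂ) * d - δ)) • pRegularPart p (ξ : G → ℂ) := by
        funext g
        rw [Finset.sum_apply]
        simp only [Pi.smul_apply, smul_eq_mul, pRegularPart]
        split_ifs with hg
        · have h := S.regular_rel hM hφ hg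
          simp only [div_mul_eq_mul_div, ← Finset.sum_div, neg_mul, Finset.sum_neg_distrib]
          rw [eq_div_iff hne]
          linear_combination h
        · simp
      show pRegularPart p (μ φ : G → ℂ) ∈ Submodule.span ℂ R
      rw [e]
      exact Submodule.sum_mem _ fun ξ hξ => Submodule.smul_mem _ _
        (Submodule.subset_span ⟨ξ, hξ, rfl⟩)
  refine le_trans (Submodule.finrank_mono hle) ?_
  have hR : R = ((S.rest.image fun χ : IrrCharacter G => pRegularPart p (χ : G → ℂ)) :
      Set (G → ℂ)) := by simp [R]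
  rw [hR]
  exact le_trans (finrank_span_finset_le_card _) Finset.card_image_le

end CfsgLib.InertPrime
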