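import Cfsg.Agent.Lib.InertPrime.Core
import Cfsg.Agent.Lib.AbelTwo.Reduce

/-!
# An abelian Sylow 2-subgroup with an automiser of prime order

The fixed points of the automiser are split off by transfer.
-/

set_option autoImplicit false
set_option linter.unusedSectionVars false
set_option linter.style.haveILetI false
set_option linter.unusedVariables false
set_option maxHeartbeats 800000

noncomputable section

namespace CfsgLib.InertPrime

open Cfsg CfsgLib.Characters CfsgLib.Blocks CfsgLib.AbelTwo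
open scoped ComplexConjugate Classical commutatorElement

universe u

variable {G : Type u} [Group G] [Fintype G] [hp2 : Fact (Nat.Prime 2)] {M : Ideal AlgInt}

/-- The invariants of the principal block for an automiser of prime order. -/
theorem block_invariants (hM : IsPModular 2 M) (P : Sylow 2 G)
    (hab : ∀ a ∈ (P : Subgroup G), ∀ b ∈ (P : Subgroup G), a * b = b * a)
    (he : ((Subgroup.centralizer ((P : Subgroup G) : Set G)).relIndex
      (Subgroup.normalizer ((P : Subgroup G) : Set G))).Prime) :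
    blockRank 2 (principalBlock M G) = (Subgroup.centralizer ((P : Subgroup G) : Set G)).relIndex
      (Subgroup.normalizer ((P : Subgroup G) : Set G)) ∧
    (¬ Group.IsSolvable G → Nat.card (principalBlock M G) = Nat.card (P : Subgroup G)) := by
  letI : CommGroup (P : Subgroup G) :=
    { (inferInstance : Group (P : Subgroup G)) with
      mul_comm := fun s t => Subtype.ext (hab s s.2 t t.2) }
  set f := (P : Subgroup G).normalizerMonoidHom with hf
  set E := f.range with hE
  haveI : Fintype E := Fintype.ofFinite E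
  have hEodd : Odd (Nat.card E) := odd_automiser hab
  -- the norm map onto the fixed points
  let φ : (P : Subgroup G) →* (P : Subgroup G) :=
    { toFun := fun y => ∏ e : E, (e : MulAut (P : Subgroup G)) y
      map_one' := by simp
      map_mul' := fun y z => by simp [Finset.prod_mul_distrib] }
  have hφ : ∀ y, φ y = ∏ e : E, (e : MulAut (P : Subgroup G)) y := fun y => rfl
  have hφinv : ∀ (d : MulAut (P : Subgroup G)), d ∈ E → ∀ y, φ (d y) = φ y := fun d hd y => by
    rw [hφ, hφ]
    exact Fintype.prod_equiv (Equiv.mulRight (⟨d, hd⟩ : E)) _ _ fun e => rfl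
  have hφfix : ∀ (d : MulAut (P : Subgroup G)), d ∈ E → ∀ y, d (φ y) = φ y := fun d hd y => by
    rw [hφ, map_prod]
    exact Fintype.prod_equiv (Equiv.mulLeft (⟨d, hd⟩ : E)) _ _ fun e => rfl
  have hφpow : ∀ y, (∀ d ∈ E, (d : MulAut (P : Subgroup G)) y = y) → φ y = y ^ Nat.card E :=
    fun y hy => by
      rw [hφ, Finset.prod_congr rfl fun (e : E) _ => hy (e : MulAut (P : Subgroup G)) e.2, Finset.prod_const, Finset.card_univ,
        Nat.card_eq_fintype_card]
  obtain ⟨k, hk⟩ := P.2.exists_card_eq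
  have hcopow : ∀ {m : ℕ}, ¬ 2 ∣ m → Nat.Coprime (Nat.card (P : Subgroup G)) m := fun {m} hm => by
    rw [hk]
    exact ((Nat.prime_two.coprime_iff_not_dvd).2 hm).pow_left k
  have hcopE := hcopow (m := Nat.card E) (Nat.two_dvd_ne_zero.2 (Nat.odd_iff.1 hEodd))
  have hcopI := hcopow P.not_dvd_index
  -- the transfer onto the fixed points
  have hfoc : (P : Subgroup G).focalSubgroupOf ≤ φ.ker := by
    intro y hy
    have h : (P : Subgroup G).focalSubgroup ≤ φ.ker.map (P : Subgroup G).subtype := by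
      rw [Subgroup.focalSubgroup_def, Subgroup.closure_le]
      rintro z ⟨hz, w, hw, u, rfl⟩
      refine ⟨⟨⁅w, u⁆, hz⟩, ?_, rfl⟩
      have h1 : u * w⁻¹ * u⁻¹ ∈ (P : Subgroup G) := by
        have := mul_mem (inv_mem hw) hz
        simpa [commutatorElement_def, mul_assoc] using this
      obtain ⟨n, hn, e⟩ := fusion P hab (inv_mem hw) h1
      have h2 : (⟨⁅w, u⁆, hz⟩ : (P : Subgroup G)) = ⟨w, hw⟩ * f ⟨n, hn⟩ ⟨w⁻¹, inv_mem hw⟩ := by
        refine Subtype.ext ?_
        show ⁅w, u⁆ = w * (n * w⁻¹ * n⁻¹)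
        rw [e, commutatorElement_def]
        group
      show φ _ = 1
      rw [h2, map_mul, hφinv _ ⟨_, rfl⟩, ← map_mul,
        show (⟨w, hw⟩ : (P : Subgroup G)) * ⟨w⁻¹, inv_mem hw⟩ = 1 from
          Subtype.ext (mul_inv_cancel w), map_one]
    obtain ⟨y', hy', e⟩ := h hy
    rwa [show y = y' from (Subtype.ext e).symm]
  set ψ : G →* (P : Subgroup G) :=
    (QuotientGroup.lift (P : Subgroup G).focalSubgroupOf φ hfoc).comp
      (P : Subgroup G).transferFocal with hψ
  have hψP : ∀ y : (P : Subgroup G), ψ y = φ y ^ (P : Subgroup G).index := fun y => by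
    simp only [hψ, MonoidHom.comp_apply]
    rw [(P : Subgroup G).transferFocal_eq_pow y, map_pow]
    rfl
  set K := ψ.ker with hK
  have hrange : ψ.range = φ.range := by
    refine le_antisymm ?_ ?_
    · rintro _ ⟨g, rfl⟩
      simp only [hψ, MonoidHom.comp_apply]
      generalize (P : Subgroup G).transferFocal g = t
      induction t using QuotientGroup.induction_on with
      | H z => exact ⟨z, rfl⟩
    · rintro _ ⟨y, rfl⟩
      obtain ⟨z, hz⟩ := (Nat.Coprime.pow_left_bijective hcopI).2 y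
      refine ⟨z, ?_⟩
      rw [hψP, ← map_pow]
      exact congrArg φ hz
  have hKidx : K.index = Nat.card φ.range := by rw [hK, Subgroup.index_ker, hrange]
  have hmemK : ∀ y : (P : Subgroup G), (y : G) ∈ K ↔ φ y = 1 := fun y => by
    rw [hK, MonoidHom.mem_ker, hψP, ← map_pow]
    constructor
    · intro h
      rw [map_pow] at h
      exact (Nat.Coprime.pow_left_bijective hcopI).1 (by simpa using h)
    · intro h; rw [map_pow, h, one_pow]
  haveI : K.Normal := MonoidHom.normal_ker ψ
  have hsplit : Nat.card φ.range * Nat.card φ.ker = Nat.card (P : Subgroup G) := by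
    rw [← Subgroup.index_ker, mul_comm, Subgroup.card_mul_index]
  set Q₀ := (P : Subgroup G).subgroupOf K with hQ₀
  have hQcard : Nat.card Q₀ = Nat.card φ.ker :=
    Nat.card_congr
      { toFun := fun z => ⟨⟨((z : K) : G), z.2⟩, MonoidHom.mem_ker.2 ((hmemK _).1 (z : K).2)⟩
        invFun := fun y => ⟨⟨((y : (P : Subgroup G)) : G), (hmemK _).2 (MonoidHom.mem_ker.1 y.2)⟩,
          (y : (P : Subgroup G)).2⟩
        left_inv := fun z => rfl
        right_inv := fun y => rfl }
  have hQidx : ¬ 2 ∣ Q₀.index := by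
    have h1 := Q₀.card_mul_index
    have h2 := K.card_mul_index
    have h3 := (P : Subgroup G).card_mul_index
    rw [hKidx] at h2
    rw [hQcard] at h1
    rw [← h2, ← h1, ← hsplit, mul_assoc (Nat.card φ.range), mul_comm (Nat.card φ.range)] at h3
    have h4 := Nat.eq_of_mul_eq_mul_right Nat.card_pos h3
    rw [← Nat.eq_of_mul_eq_mul_left Nat.card_pos h4]
    exact P.not_dvd_index
  let Q : Sylow 2 K := IsPGroup.toSylow
    (P.2.comap_of_injective K.subtype Subtype.val_injective : IsPGroup 2 Q₀) hQidx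
  have hQmem : ∀ z : K, z ∈ (Q : Subgroup K) ↔ (z : G) ∈ (P : Subgroup G) := fun z => Iff.rfl
  have habQ : ∀ a ∈ (Q : Subgroup K), ∀ b ∈ (Q : Subgroup K), a * b = b * a := fun a ha b hb =>
    Subtype.ext (hab _ ha _ hb)
  -- no fixed points inside
  have hEcard : Nat.card E = (Subgroup.centralizer ((P : Subgroup G) : Set G)).relIndex
      (Subgroup.normalizer ((P : Subgroup G) : Set G)) := by
    rw [hE, hf, ← Subgroup.index_ker, Subgroup.normalizerMonoidHom_ker]
    rfl
  have habQ' : IsMulCommutative ↥(Q : Subgroup K) :=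
    ⟨⟨fun a b => Subtype.ext (habQ _ a.2 _ b.2)⟩⟩
  -- lifting an element of the normaliser of `Q`
  have hdecomp : ∀ m ∈ Subgroup.normalizer ((P : Subgroup G) : Set G),
      ∃ v ∈ (P : Subgroup G), m * v⁻¹ ∈ K ∧
        m * v⁻¹ ∈ Subgroup.normalizer ((P : Subgroup G) : Set G) := by
    intro m hm
    obtain ⟨v, hv⟩ : ψ m ∈ φ.range := hrange ▸ ⟨_, rfl⟩
    obtain ⟨v', hv'⟩ := (Nat.Coprime.pow_left_bijective hcopI).2 v
    refine ⟨(v' : G), v'.2, ?_, mul_mem hm (inv_mem (Subgroup.le_normalizer v'.2))⟩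
    rw [hK, MonoidHom.mem_ker, map_mul, map_inv, hψP, ← map_pow,
      show φ (v' ^ (P : Subgroup G).index) = ψ m by rw [← hv]; exact congrArg φ hv',
      mul_inv_cancel]
  set fK := (Q : Subgroup K).normalizerMonoidHom with hfK
  have haut : ∀ n : ↥(Subgroup.normalizer ((Q : Subgroup K) : Set K)),
      ∃ m : ↥(Subgroup.normalizer ((P : Subgroup G) : Set G)),
        ∀ z : K, z ∈ (Q : Subgroup K) →
          ((n : K) : G) * z * ((n : K) : G)⁻¹ = (m : G) * z * (m : G)⁻¹ := by
    intro n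
    set C := Subgroup.centralizer (((Q : Subgroup K).map K.subtype : Subgroup G) : Set G)
    have hPC : (P : Subgroup G) ≤ C := fun p hp => Subgroup.mem_centralizer_iff.2 (by
      rintro _ ⟨z, hz, rfl⟩
      exact hab _ hz p hp)
    set g : G := ((n : K) : G)
    have hPgC : ((g • P : Sylow 2 G) : Subgroup G) ≤ C := by
      intro p hp
      rw [Sylow.coe_subgroup_smul, Subgroup.mem_pointwise_smul_iff_inv_smul_mem] at hp
      refine Subgroup.mem_centralizer_iff.2 ?_
      rintro _ ⟨z, hz, rfl⟩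
      have hz' : (n : K)⁻¹ * z * (n : K) ∈ (Q : Subgroup K) := by
        have := (Subgroup.mem_normalizer_iff.1 (inv_mem n.2) z).1 hz
        simpa using this
      have h1 : g⁻¹ * (z : G) * g * (g⁻¹ * p * g) = g⁻¹ * p * g * (g⁻¹ * (z : G) * g) :=
        hab _ ((hQmem _).1 hz') _ (by simpa [MulAut.smul_def] using hp)
      calc (z : G) * p = g * (g⁻¹ * (z : G) * g * (g⁻¹ * p * g)) * g⁻¹ := by group
        _ = p * (z : G) := by rw [h1]; group
    obtain ⟨c, hc⟩ := MulAction.exists_smul_eq C ((g • P : Sylow 2 G).subtype hPgC)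
      (P.subtype hPC)
    rw [Sylow.smul_subtype] at hc
    have hcg : ((c : G) * g) • P = P := (mul_smul (c : G) g P).trans (Sylow.subtype_injective hc)
    have hm : (c : G) * g ∈ Subgroup.normalizer ((P : Subgroup G) : Set G) :=
      Sylow.smul_eq_iff_mem_normalizer.1 hcg
    refine ⟨⟨_, hm⟩, fun z hz => ?_⟩
    have hz' : (n : K) * z * (n : K)⁻¹ ∈ (Q : Subgroup K) :=
      (Subgroup.mem_normalizer_iff.1 n.2 z).1 hz
    have hcz : g * (z : G) * g⁻¹ * (c : G) = (c : G) * (g * (z : G) * g⁻¹) :=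
      Subgroup.mem_centralizer_iff.1 c.2 _ ⟨_, hz', rfl⟩
    show g * (z : G) * g⁻¹ = (c : G) * g * (z : G) * ((c : G) * g)⁻¹
    calc g * (z : G) * g⁻¹ = g * (z : G) * g⁻¹ * (c : G) * (c : G)⁻¹ := by group
      _ = (c : G) * (g * (z : G) * g⁻¹) * (c : G)⁻¹ := by rw [hcz]
      _ = (c : G) * g * (z : G) * ((c : G) * g)⁻¹ := by group
  have hfixE : ∀ z ∈ (Q : Subgroup K), z ≠ 1 →
      ∀ m : ↥(Subgroup.normalizer ((P : Subgroup G) : Set G)),
      (m : G) * z * (m : G)⁻¹ = z → f m = 1 := by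
    intro z hz hz1 m hm
    by_contra hne
    haveI := Fact.mk he
    set y : (P : Subgroup G) := ⟨(z : G), hz⟩
    have h1 : f m y = y := Subtype.ext hm
    have hy : ∀ d ∈ E, (d : MulAut (P : Subgroup G)) y = y := by
      intro d hd
      obtain ⟨j, hj⟩ := Subgroup.mem_zpowers_iff.1 (mem_zpowers_of_prime_card hEcard
        (g := (⟨f m, ⟨m, rfl⟩⟩ : E)) (fun h => hne (congrArg Subtype.val h)) (g' := ⟨d, hd⟩))
      have hje : (f m) ^ j = d := by simpa using congrArg Subtype.val hj
      rw [← hje]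
      exact MulAction.mem_stabilizer_iff.1
        (zpow_mem (MulAction.mem_stabilizer_iff.2 h1 : f m ∈ MulAction.stabilizer _ y) j)
    have h2 : y ^ Nat.card E = 1 := by
      rw [← hφpow y hy]; exact (hmemK y).1 z.2
    have h3 : y = 1 := (Nat.Coprime.pow_left_bijective hcopE).1 (by simpa using h2)
    exact hz1 (Subtype.ext (show (y : G) = ((1 : K) : G) by rw [h3]; rfl))
  have hfrob : AbelianFrob.Fpf Q := by
    intro z hz hz1
    refine le_antisymm ?_ (le_inf (fun c hc => ?_) (Subgroup.centralizer_le_normalizer _))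
    · rintro n ⟨hnz, hn⟩
      obtain ⟨m, hm⟩ := haut ⟨n, hn⟩
      have hnz' : (n : G) * z = z * n :=
        congrArg Subtype.val (Subgroup.mem_centralizer_singleton_iff.1 hnz)
      have h1 := hfixE z hz hz1 m (by
        rw [← hm z hz]
        exact mul_inv_eq_iff_eq_mul.2 hnz')
      refine Subgroup.mem_centralizer_iff.2 fun r hr => Subtype.ext ?_
      have h2 := (aut_eq_one_iff m).1 h1 (r : G) ((hQmem r).1 hr)
      have h3 := hm r hr
      rw [mul_inv_eq_iff_eq_mul.2 h2] at h3
      exact (mul_inv_eq_iff_eq_mul.1 h3).symm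
    · exact Subgroup.mem_centralizer_singleton_iff.2
        (Subgroup.mem_centralizer_iff.1 hc z hz).symm
  have hQne : Nat.card (Q : Subgroup K) ≠ 1 := by
    intro h
    have hker1 : φ.ker = ⊥ := Subgroup.card_eq_one.1 (hQcard ▸ h)
    have hbot : E = ⊥ := (Subgroup.eq_bot_iff_forall _).2 fun d hd => MulEquiv.ext fun y =>
      MonoidHom.ker_eq_bot_iff φ |>.1 hker1 (hφinv d hd y)
    rw [hbot, Subgroup.card_bot] at hEcard
    exact he.ne_one hEcard.symm
  -- the automiser inside `K`
  obtain ⟨z₀, hz₀, hz₀1⟩ : ∃ z ∈ (Q : Subgroup K), z ≠ 1 := by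
    by_contra h
    push Not at h
    exact hQne (Subgroup.card_eq_one.2 ((Subgroup.eq_bot_iff_forall _).2 h))
  set N₀ := Subgroup.normalizer ((P : Subgroup G) : Set G) ⊓ K with hN₀
  let ι : N₀ →* ↥(Subgroup.normalizer ((P : Subgroup G) : Set G)) :=
    Subgroup.inclusion inf_le_left
  let j₀ : N₀ →* ↥(Subgroup.normalizer ((Q : Subgroup K) : Set K)) :=
    { toFun := fun n => ⟨⟨(n : G), n.2.2⟩, Subgroup.mem_normalizer_iff.2 fun w => by
        rw [hQmem, hQmem]
        exact Subgroup.mem_normalizer_iff.1 n.2.1 (w : G)⟩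
      map_one' := rfl
      map_mul' := fun _ _ => rfl }
  have hr1 : (f.comp ι).range = E := by
    refine le_antisymm (by rintro _ ⟨n, rfl⟩; exact ⟨ι n, rfl⟩) ?_
    rintro _ ⟨m, rfl⟩
    obtain ⟨v, hv, hvK, hvN⟩ := hdecomp m m.2
    refine ⟨⟨_, hvN, hvK⟩, ?_⟩
    have hv1 : f ⟨v, Subgroup.le_normalizer hv⟩ = 1 :=
      (aut_eq_one_iff _).2 fun r hr => hab v hv r hr
    show f (ι ⟨_, hvN, hvK⟩) = f m
    have e : ι ⟨_, hvN, hvK⟩ = m * (⟨v, Subgroup.le_normalizer hv⟩ :
        ↥(Subgroup.normalizer ((P : Subgroup G) : Set G)))⁻¹ := Subtype.ext rfl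
    rw [e, map_mul, map_inv, hv1, inv_one, mul_one]
  have hr2 : (fK.comp j₀).range = fK.range := by
    refine le_antisymm (by rintro _ ⟨n, rfl⟩; exact ⟨j₀ n, rfl⟩) ?_
    rintro _ ⟨n, rfl⟩
    obtain ⟨m, hm⟩ := haut n
    obtain ⟨v, hv, hvK, hvN⟩ := hdecomp m m.2
    refine ⟨⟨_, hvN, hvK⟩, MulEquiv.ext fun r => Subtype.ext (Subtype.ext ?_)⟩
    show (m : G) * v⁻¹ * ((r : K) : G) * ((m : G) * v⁻¹)⁻¹ =
      ((n : K) : G) * ((r : K) : G) * ((n : K) : G)⁻¹
    rw [hm (r : K) r.2]
    have h := hab v⁻¹ ((P : Subgroup G).inv_mem hv) _ ((hQmem _).1 r.2)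
    calc (m : G) * v⁻¹ * ((r : K) : G) * ((m : G) * v⁻¹)⁻¹
        = (m : G) * (v⁻¹ * ((r : K) : G)) * v * (m : G)⁻¹ := by group
      _ = (m : G) * ((r : K) : G) * (m : G)⁻¹ := by rw [h]; group
  have hker : (fK.comp j₀).ker = (f.comp ι).ker := by
    ext n
    rw [MonoidHom.mem_ker, MonoidHom.mem_ker]
    constructor
    · intro h
      refine hfixE z₀ hz₀ hz₀1 (ι n) ?_
      exact congrArg (fun a : MulAut ↥(Q : Subgroup K) => ((a ⟨z₀, hz₀⟩ : ↥(Q : Subgroup K)) : K).1) h
    · intro h
      refine MulEquiv.ext fun r => Subtype.ext (Subtype.ext ?_)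
      show (n : G) * ((r : K) : G) * (n : G)⁻¹ = ((r : K) : G)
      exact mul_inv_eq_iff_eq_mul.2 ((aut_eq_one_iff (ι n)).1 h _ ((hQmem _).1 r.2))
  have heK : (AbelianFrob.CP Q).relIndex (AbelianFrob.NP Q) =
      (Subgroup.centralizer ((P : Subgroup G) : Set G)).relIndex
        (Subgroup.normalizer ((P : Subgroup G) : Set G)) := by
    rw [← hEcard, ← hr1, ← Subgroup.index_ker, ← hker, Subgroup.index_ker, hr2, hfK,
      ← Subgroup.index_ker, Subgroup.normalizerMonoidHom_ker]
    rfl
  haveI : Fintype K := Fintype.ofFinite K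
  obtain ⟨hlK, hkK⟩ := invariants Q habQ' hfrob hM (heK.symm ▸ he) hQne
  -- the defect group
  obtain ⟨D, hD⟩ := CfsgLib.Blocks.exists_isDefectGroup hM (isPBlock_principalBlock (G := G) M)
  have hDp : IsPGroup 2 D := IsPGroup.of_card (n := blockDefect 2 (principalBlock M G))
    (CfsgLib.BlockCover.natCard_defect hM (isPBlock_principalBlock M) hD)
  obtain ⟨S, hS⟩ := hDp.exists_le_sylow
  obtain ⟨d, hd⟩ := MulAction.exists_smul_eq G S P
  have hDab : ∀ u ∈ D, ∀ v ∈ D, u * v = v * u := by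
    intro u hu v hv
    have hm : ∀ w ∈ D, d * w * d⁻¹ ∈ (P : Subgroup G) := fun w hw => by
      rw [← hd, Sylow.coe_subgroup_smul]
      exact Subgroup.smul_mem_pointwise_smul _ (MulAut.conj d) _ (hS hw)
    have h := hab _ (hm u hu) _ (hm v hv)
    exact mul_left_cancel (a := d) (mul_right_cancel (b := d⁻¹) (by
      calc d * (u * v) * d⁻¹ = d * u * d⁻¹ * (d * v * d⁻¹) := by group
        _ = d * v * d⁻¹ * (d * u * d⁻¹) := h
        _ = d * (v * u) * d⁻¹ := by group))
  obtain ⟨j, hj⟩ : ∃ j : ℕ, K.index = 2 ^ j := by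
    rw [hKidx]
    exact (P.2.to_subgroup φ.range).exists_card_eq
  have hst := CfsgLib.StableBlock.stable_block K hM ⟨j, hj⟩ (isPBlock_principalBlock M)
    (fun g => CfsgLib.BrauerPairs.stabilizesBlock_principal hM
      (by rw [Subgroup.normalizer_eq_top]; exact Subgroup.mem_top g))
    (isPBlock_principalBlock M)
    ⟨principalIrr G, principalIrr_mem' hM, principalIrr K, principalIrr_mem' hM, by
      rw [show (fun n : K => (principalIrr G : G → ℂ) n) = (principalIrr K : K → ℂ) from rfl,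
        classInner_irr_self (principalIrr K).2]
      exact one_ne_zero⟩ hD hDab
  refine ⟨?_, fun hns => ?_⟩
  · rw [hst.2.2.2.2.2, hlK, heK]
  · have hnsK : ¬ Group.IsSolvable K := by
      intro hKs
      refine hns (ConstDiff.isSolvable_of_normal K hKs ?_)
      haveI := (IsPGroup.of_card (n := j) (by rw [← Subgroup.index_eq_card, hj]) :
        IsPGroup 2 (G ⧸ K)).isNilpotent
      infer_instance
    rw [hst.2.2.2.2.1, hkK hnsK, hKidx, show Nat.card (Q : Subgroup K) = Nat.card φ.ker from hQcard]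
    exact hsplit

end CfsgLib.InertPrime
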