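import Cfsg.Agent.Lib.InertPrime.Exc

/-!
# Orbits of a free automiser on a Sylow subgroup
-/

set_option autoImplicit false
set_option linter.style.haveILetI false
set_option linter.unusedSectionVars false
set_option linter.unusedVariables false

noncomputable section

namespace CfsgLib.InertPrime

open Cfsg CfsgLib.Characters CfsgLib.AbelianFrob
open scoped ComplexConjugate Classical

universe u

variable {G : Type u} [Group G] [Fintype G]

section General

variable {p : ℕ} [Fact p.Prime] (P : Sylow p G)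

/-- An invariant set with the identity and something else has more elements than the index. -/
theorem succ_le_card_invariant (hfrob : Fpf P) (R : Subgroup G) (hR : R ≤ (P : Subgroup G))
    (hinv : ∀ n ∈ NP P, ∀ r ∈ R, n * r * n⁻¹ ∈ R) {r : G} (hr : r ∈ R) (hr1 : r ≠ 1) :
    (CP P).relIndex (NP P) + 1 ≤ Nat.card R := by
  set C := (CP P).subgroupOf (NP P)
  let g : Option (↥(NP P) ⧸ C) → R := fun o => match o with
    | none => 1
    | some a => ⟨(a.out : G) * r * (a.out : G)⁻¹, hinv _ a.out.2 r hr⟩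
  have hne : ∀ a : ↥(NP P) ⧸ C, g (some a) ≠ 1 := fun a h =>
    hr1 (conj_eq_one_iff.1 (congrArg Subtype.val h))
  have hg : Function.Injective g := by
    rintro (_ | a) (_ | b) h
    · rfl
    · exact absurd h.symm (hne b)
    · exact absurd h (hne a)
    · refine congrArg some ?_
      have h' : (a.out : G) * r * (a.out : G)⁻¹ = (b.out : G) * r * (b.out : G)⁻¹ :=
        congrArg Subtype.val h
      rw [← a.out_eq', ← b.out_eq', QuotientGroup.eq, Subgroup.mem_subgroupOf]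
      rw [← hfrob r (hR hr) hr1]
      refine ⟨Subgroup.mem_centralizer_singleton_iff.2 ?_, SetLike.coe_mem _⟩
      rw [Subgroup.coe_mul, Subgroup.coe_inv]
      calc (a.out : G)⁻¹ * (b.out : G) * r
          = (a.out : G)⁻¹ * ((b.out : G) * r * (b.out : G)⁻¹) * (b.out : G) := by group
        _ = (a.out : G)⁻¹ * ((a.out : G) * r * (a.out : G)⁻¹) * (b.out : G) := by rw [h']
        _ = r * ((a.out : G)⁻¹ * (b.out : G)) := by group
  have h := Nat.card_le_card_of_injective g hg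
  haveI : Fintype (↥(NP P) ⧸ C) := Fintype.ofFinite _
  rw [Nat.card_eq_fintype_card, Fintype.card_option, ← Nat.card_eq_fintype_card,
    ← Subgroup.index_eq_card] at h
  exact h

end General

variable [hp2 : Fact (Nat.Prime 2)] (P : Sylow 2 G) (hab : IsMulCommutative ↥(P : Subgroup G))
  (hfrob : Fpf P)

include hab hfrob in
/-- A non-elementary Sylow subgroup: a bound and two orbits that differ at an involution. -/
theorem nonelementary_facts (he1 : 1 < (CP P).relIndex (NP P)) {w : G}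
    (hw : w ∈ (P : Subgroup G)) (hw2 : w * w ≠ 1) :
    (CP P).relIndex (NP P) * ((CP P).relIndex (NP P) + 2) + 1 ≤ Nat.card ↥(P : Subgroup G) ∧
    ∃ (y : ↥(P : Subgroup G)) (ψ₀ ψ₁ : Dual P), orderOf (y : G) = 2 ∧ ψ₀ ≠ 1 ∧ ψ₁ ≠ 1 ∧
      osum P ψ₀ y ^ 2 ≠ osum P ψ₁ y ^ 2 := by
  haveI := hab
  letI : CommGroup ↥(P : Subgroup G) :=
    { (inferInstance : Group ↥(P : Subgroup G)) with mul_comm := mul_comm' }
  set e := (CP P).relIndex (NP P) with he
  set sq : ↥(P : Subgroup G) →* ↥(P : Subgroup G) := powMonoidHom 2 with hsq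
  have hsqv : ∀ x, sq x = x ^ 2 := fun x => rfl
  set w' : ↥(P : Subgroup G) := ⟨w, hw⟩
  have hw' : sq w' ≠ 1 := fun h => hw2 (by
    have := congrArg Subtype.val h
    simpa [hsqv, pow_two] using this)
  -- an involution
  obtain ⟨y, hy⟩ : ∃ y : ↥(P : Subgroup G), orderOf y = 2 := by
    refine exists_prime_orderOf_dvd_card' 2 ?_
    obtain ⟨k, hk⟩ := P.2.exists_card_eq
    rw [hk]
    refine dvd_pow_self 2 fun h0 => ?_
    rw [h0, pow_zero] at hk
    exact hw' ((Nat.card_eq_one_iff_unique.1 hk).1.elim _ _)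
  have hy2 : y ^ 2 = 1 := orderOf_dvd_iff_pow_eq_one.1 (dvd_of_eq hy)
  have hy1 : y ≠ 1 := fun h => by rw [h, orderOf_one] at hy; omega
  have hcard : Nat.card sq.ker * Nat.card sq.range = Nat.card ↥(P : Subgroup G) := by
    rw [← Subgroup.index_ker, Subgroup.card_mul_index]
  have hconj : ∀ n : ↥(NP P), ∀ x : ↥(P : Subgroup G),
      (((P : Subgroup G).normalizerMonoidHom n x : ↥(P : Subgroup G)) : G) =
        (n : G) * x * (n : G)⁻¹ := fun n x => rfl
  have hK : e + 1 ≤ Nat.card sq.ker := by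
    rw [Nat.card_congr (sq.ker.equivMapOfInjective (P : Subgroup G).subtype
      Subtype.val_injective).toEquiv]
    refine succ_le_card_invariant P hfrob _ (Subgroup.map_subtype_le _) ?_
      (r := (y : G)) ⟨y, hy2, rfl⟩ (fun h => hy1 (Subtype.ext h))
    rintro n hn _ ⟨x, hx, rfl⟩
    refine ⟨(P : Subgroup G).normalizerMonoidHom ⟨n, hn⟩ x, ?_, hconj _ x⟩
    show sq _ = 1
    rw [hsqv, ← map_pow, ← hsqv, show sq x = 1 from hx, map_one]
  have hR : e + 1 ≤ Nat.card sq.range := by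
    rw [Nat.card_congr (sq.range.equivMapOfInjective (P : Subgroup G).subtype
      Subtype.val_injective).toEquiv]
    refine succ_le_card_invariant P hfrob _ (Subgroup.map_subtype_le _) ?_
      (r := ((sq w' : ↥(P : Subgroup G)) : G)) ⟨sq w', ⟨w', rfl⟩, rfl⟩
      (fun h => hw' (Subtype.ext h))
    rintro n hn _ ⟨_, ⟨x, rfl⟩, rfl⟩
    refine ⟨(P : Subgroup G).normalizerMonoidHom ⟨n, hn⟩ (sq x), ⟨(P : Subgroup G).normalizerMonoidHom ⟨n, hn⟩ x, ?_⟩,
      hconj _ _⟩
    rw [hsqv, hsqv, map_pow]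
  refine ⟨?_, y, ?_⟩
  · have h := Nat.mul_le_mul hK hR
    rw [hcard] at h
    calc e * (e + 2) + 1 = (e + 1) * (e + 1) := by ring
      _ ≤ _ := h
  -- a character trivial on the involutions
  obtain ⟨ν, hν⟩ := CommGroup.exists_apply_ne_one_of_hasEnoughRootsOfUnity ↥(P : Subgroup G) ℂ hw'
  set ψ₀ : Dual P := ν.comp sq
  have hψ₀ : ψ₀ ≠ 1 := fun h => hν (DFunLike.congr_fun h w')
  have hS₀ : osum P ψ₀ y = (e : ℂ) := by
    have h1 : ∀ φ ∈ Finset.univ.filter (· ∈ orb P ψ₀), (φ y : ℂ) = 1 := by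
      intro φ hφ
      obtain ⟨n, rfl⟩ := (mem_orb P).1 (Finset.mem_filter.1 hφ).2
      show ((ν (sq ((P : Subgroup G).normalizerMonoidHom n⁻¹ y)) : ℂˣ) : ℂ) = 1
      rw [hsqv, ← map_pow, hy2, map_one, map_one, Units.val_one]
    rw [osum, Finset.sum_congr rfl h1, Finset.sum_const, card_orb P hab hfrob hψ₀, nsmul_one]
  -- a second one
  obtain ⟨n, hn, hnC⟩ : ∃ n ∈ NP P, n ∉ CP P := by
    by_contra h
    push Not at h
    rw [he, Subgroup.relIndex_eq_one.2 h] at he1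
    omega
  set z := (P : Subgroup G).normalizerMonoidHom ⟨n, hn⟩ y with hz
  have hyz : y * z⁻¹ ≠ 1 := by
    intro h
    refine hnC ?_
    rw [← hfrob (y : G) y.2 fun h1 => hy1 (Subtype.ext h1)]
    refine ⟨Subgroup.mem_centralizer_singleton_iff.2 ?_, hn⟩
    have h2 : (z : G) = y := congrArg Subtype.val (mul_inv_eq_one.1 h).symm
    rw [hz, hconj] at h2
    exact mul_inv_eq_iff_eq_mul.1 h2
  obtain ⟨ψ₁, hψ₁y⟩ :=
    CommGroup.exists_apply_ne_one_of_hasEnoughRootsOfUnity ↥(P : Subgroup G) ℂ hyz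
  have hψ₁ : ψ₁ ≠ 1 := fun h => hψ₁y (by rw [h]; rfl)
  refine ⟨ψ₀, ψ₁, (Subgroup.orderOf_coe y).trans hy, hψ₀, hψ₁, ?_⟩
  have hpm : ∀ φ : Dual P, (φ y : ℂ) = 1 ∨ (φ y : ℂ) = -1 := fun φ => by
    refine sq_eq_one_iff.1 ?_
    rw [← Units.val_pow_eq_pow_val, ← map_pow, hy2, map_one, Units.val_one]
  set F := Finset.univ.filter (· ∈ orb P ψ₁)
  have hFcard : F.card = e := card_orb P hab hfrob hψ₁
  set c : Dual P → ℤ := fun φ => if (φ y : ℂ) = 1 then 1 else -1
  have hc : osum P ψ₁ y = ((∑ φ ∈ F, c φ : ℤ) : ℂ) := by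
    rw [Int.cast_sum, osum]
    refine Finset.sum_congr rfl fun φ _ => ?_
    rcases hpm φ with h | h
    · simp only [c, if_pos h, h]; norm_num
    · simp only [c, h, if_neg (show ¬ ((-1 : ℂ) = 1) by norm_num)]; norm_num
  rw [hS₀, hc]
  intro heq
  have hsqe : ((∑ φ ∈ F, c φ) - e) * ((∑ φ ∈ F, c φ) + e) = 0 := by
    have h2 : ((((∑ φ ∈ F, c φ) - e) * ((∑ φ ∈ F, c φ) + e) : ℤ) : ℂ) = 0 := by
      rw [Int.cast_mul, Int.cast_sub, Int.cast_add, Int.cast_natCast]
      linear_combination -heq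
    exact_mod_cast h2
  have hall : ∃ ε : ℂ, ∀ φ ∈ F, (φ y : ℂ) = ε := by
    rcases mul_eq_zero.1 hsqe with h | h
    · refine ⟨1, fun φ hφ => (hpm φ).resolve_right fun h1 => ?_⟩
      have hz0 := (Finset.sum_eq_zero_iff_of_nonneg
        (f := fun φ => 1 - c φ) fun ψ _ => by simp only [c]; split_ifs <;> norm_num).1 (by
        rw [Finset.sum_sub_distrib, Finset.sum_const, hFcard, nsmul_eq_mul, mul_one]; omega) φ hφ
      simp only [c, h1, if_neg (show ¬ ((-1 : ℂ) = 1) by norm_num)] at hz0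
      norm_num at hz0
    · refine ⟨-1, fun φ hφ => (hpm φ).resolve_left fun h1 => ?_⟩
      have hz0 := (Finset.sum_eq_zero_iff_of_nonneg
        (f := fun φ => 1 + c φ) fun ψ _ => by simp only [c]; split_ifs <;> norm_num).1 (by
        rw [Finset.sum_add_distrib, Finset.sum_const, hFcard, nsmul_eq_mul, mul_one]; omega) φ hφ
      simp only [c, if_pos h1] at hz0
      norm_num at hz0
  obtain ⟨ε, hε⟩ := hall
  have h1 := hε ψ₁ (Finset.mem_filter.2 ⟨Finset.mem_univ _, self_mem_orb P ψ₁⟩)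
  have h2 := hε (dualAct P (⟨n, hn⟩ : ↥(NP P))⁻¹ ψ₁)
    (Finset.mem_filter.2 ⟨Finset.mem_univ _, (mem_orb P).2 ⟨_, rfl⟩⟩)
  have h3 : dualAct P (⟨n, hn⟩ : ↥(NP P))⁻¹ ψ₁ y = ψ₁ z := by
    show ψ₁ ((P : Subgroup G).normalizerMonoidHom ((⟨n, hn⟩ : ↥(NP P))⁻¹)⁻¹ y) = ψ₁ z
    rw [inv_inv]
  rw [h3, ← h1] at h2
  refine hψ₁y ?_
  rw [map_mul, map_inv, Units.ext h2, mul_inv_cancel]

end CfsgLib.InertPrime
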